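import Groth.Agent.LocImmLib.LocHom
import Mathlib.AlgebraicGeometry.OpenImmersion

/-!
# Charts of localizing morphisms
-/

set_option autoImplicit false
set_option linter.style.haveILetI false
set_option linter.unusedVariables false

universe u

open CategoryTheory AlgebraicGeometry TopologicalSpace Opposite

namespace Groth.Agent.LocImmLib

variable {X Y Z : Scheme.{u}}

theorem isLocHom_res_basicOpen {U : Y.Opens} (hU : IsAffineOpen U) (a : Γ(Y, U)) :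
    LocImm.IsLocHom (Y.presheaf.map (homOfLE (Y.basicOpen_le a)).op).hom :=
  haveI := hU.isLocalization_basicOpen a
  isLocHom_algebraMap (B := Γ(Y, Y.basicOpen a)) (Submonoid.powers a)

theorem basicOpen_appLE_eq (f : X ⟶ Y) {U : Y.Opens} {V : X.Opens} (e : V ≤ f ⁻¹ᵁ U) (a : Γ(Y, U)) :
    X.basicOpen ((f.appLE U V e).hom a) = V ⊓ f ⁻¹ᵁ Y.basicOpen a := by
  rw [Scheme.Hom.appLE, CommRingCat.comp_apply, Scheme.basicOpen_res, Scheme.preimage_basicOpen]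

/-- Restricting a chart to a basic open of the target. -/
theorem chart_basicOpen (f : X ⟶ Y) {U : Y.Opens} {V : X.Opens} (hU : IsAffineOpen U) (hV : IsAffineOpen V)
    (e : V ≤ f ⁻¹ᵁ U) (h : LocImm.IsLocHom (f.appLE U V e).hom) (a : Γ(Y, U)) :
    IsAffineOpen (V ⊓ f ⁻¹ᵁ Y.basicOpen a) ∧
      LocImm.IsLocHom (f.appLE (Y.basicOpen a) (V ⊓ f ⁻¹ᵁ Y.basicOpen a) inf_le_right).hom := by
  have hb := basicOpen_appLE_eq f e a
  refine ⟨hb ▸ hV.basicOpen _, ?_⟩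
  suffices ∀ W : X.Opens, W = X.basicOpen ((f.appLE U V e).hom a) → ∀ e' : W ≤ f ⁻¹ᵁ Y.basicOpen a,
      LocImm.IsLocHom (f.appLE (Y.basicOpen a) W e').hom from this _ hb.symm _
  rintro W rfl e'
  refine IsLocHom.of_comp (φ := (Y.presheaf.map (homOfLE (Y.basicOpen_le a)).op).hom) ?_
    (isLocHom_res_basicOpen hU a)
  rw [← CommRingCat.hom_comp, Scheme.Hom.map_appLE,
    show f.appLE U (X.basicOpen ((f.appLE U V e).hom a)) _ =
      f.appLE U V e ≫ X.presheaf.map (homOfLE (X.basicOpen_le _)).op from (Scheme.Hom.appLE_map _ _ _).symm,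
    CommRingCat.hom_comp]
  exact IsLocHom.comp (isLocHom_res_basicOpen hV _) h

/-- A point has charts over arbitrarily small opens of the target. -/
theorem exists_chart_le {f : X ⟶ Y} (hf : LocImm.IsLocalizing f) (x : X) {N : Y.Opens} (hx : f x ∈ N) :
    ∃ (U : Y.Opens) (V : X.Opens) (_ : IsAffineOpen U) (_ : IsAffineOpen V) (e : V ≤ f ⁻¹ᵁ U),
      x ∈ V ∧ U ≤ N ∧ LocImm.IsLocHom (f.appLE U V e).hom := by
  obtain ⟨U, V, hxV, e, h⟩ := hf x
  obtain ⟨a, haN, hxa⟩ := U.2.exists_basicOpen_le (V := N) ⟨f x, hx⟩ (e hxV)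
  obtain ⟨h1, h2⟩ := chart_basicOpen f U.2 V.2 e h a
  exact ⟨_, _, U.2.basicOpen a, h1, inf_le_right, ⟨hxV, hxa⟩, haN, h2⟩

theorem isLocHom_appLE_of_eq (j : X ⟶ Y) [IsOpenImmersion j] {U : Y.Opens} (hU : U ≤ j.opensRange)
    {V : X.Opens} (hV : V = j ⁻¹ᵁ U) : LocImm.IsLocHom (j.appLE U V hV.le).hom := by
  subst hV
  rw [Scheme.Hom.appLE_eq_app]
  haveI := j.isIso_app U hU
  exact isLocHom_of_bijective _ (ConcreteCategory.bijective_of_isIso (j.app U))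

theorem isLocalizing_of_isOpenImmersion (j : X ⟶ Y) [IsOpenImmersion j] : LocImm.IsLocalizing j := by
  intro x
  obtain ⟨V, hV, hxV, -⟩ := exists_isAffineOpen_mem_and_subset (x := x) (U := ⊤) (Set.mem_univ _)
  refine ⟨⟨j ''ᵁ V, hV.image_of_isOpenImmersion j⟩, ⟨V, hV⟩, hxV, (j.preimage_image_eq V).ge, ?_⟩
  exact isLocHom_appLE_of_eq j (Set.image_subset_range _ _) (j.preimage_image_eq V).symm

theorem IsLocalizing.comp {f : X ⟶ Y} {g : Y ⟶ Z} (hf : LocImm.IsLocalizing f) (hg : LocImm.IsLocalizing g) :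
    LocImm.IsLocalizing (f ≫ g) := by
  intro x
  obtain ⟨U₁, V₁, hx₁, e₁, h₁⟩ := hg (f x)
  obtain ⟨U, V, hU, hV, e, hxV, hUV, h⟩ := exists_chart_le hf x (N := V₁.1) hx₁
  obtain ⟨b, hb, hxb⟩ := V₁.2.exists_basicOpen_le (V := U) ⟨f x, e hxV⟩ hx₁
  -- shrink the chart of `f` to the basic open
  have hbU : Y.basicOpen (Y.presheaf.map (homOfLE hUV).op b) = Y.basicOpen b := by
    rw [Scheme.basicOpen_res]; exact inf_eq_right.2 hb
  obtain ⟨hV', h'⟩ := chart_basicOpen f hU hV e h (Y.presheaf.map (homOfLE hUV).op b)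
  refine ⟨U₁, ⟨_, hV'⟩, ⟨hxV, show f x ∈ Y.basicOpen _ by rw [hbU]; exact hxb⟩,
    inf_le_right.trans ((f.preimage_mono ((Y.basicOpen_res b (homOfLE hUV).op).le.trans
      (inf_le_right.trans (Y.basicOpen_le b)))).trans (f.preimage_mono e₁)), ?_⟩
  have hle : Y.basicOpen (Y.presheaf.map (homOfLE hUV).op b) ≤ g ⁻¹ᵁ U₁.1 :=
    hbU.le.trans ((Y.basicOpen_le b).trans e₁)
  rw [← Scheme.Hom.appLE_comp_appLE f g U₁.1 (Y.basicOpen (Y.presheaf.map (homOfLE hUV).op b)) _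
    hle inf_le_right, CommRingCat.hom_comp]
  refine IsLocHom.comp h' ?_
  suffices ∀ (W : Y.Opens), W = Y.basicOpen b → ∀ hW : W ≤ g ⁻¹ᵁ U₁.1,
      LocImm.IsLocHom (g.appLE U₁.1 W hW).hom from this _ hbU _
  rintro W rfl hW
  rw [show g.appLE U₁.1 (Y.basicOpen b) hW = g.appLE U₁.1 V₁.1 e₁ ≫ Y.presheaf.map (homOfLE (Y.basicOpen_le b)).op
    from (Scheme.Hom.appLE_map _ _ _).symm, CommRingCat.hom_comp]
  exact IsLocHom.comp (isLocHom_res_basicOpen V₁.2 b) h₁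

/-- Open immersions may be cancelled on the right. -/
theorem IsLocalizing.of_comp_openImmersion {f : X ⟶ Y} (j : Y ⟶ Z) [IsOpenImmersion j]
    (h : LocImm.IsLocalizing (f ≫ j)) : LocImm.IsLocalizing f := by
  intro x
  obtain ⟨U, V, hU, hV, e, hxV, hUj, hloc⟩ := exists_chart_le h x (N := j.opensRange) ⟨f x, rfl⟩
  refine ⟨⟨j ⁻¹ᵁ U, hU.preimage_of_isOpenImmersion j hUj⟩, ⟨V, hV⟩, hxV, e, ?_⟩
  have e' : V ≤ f ⁻¹ᵁ (j ⁻¹ᵁ U) := e
  show LocImm.IsLocHom (f.appLE (j ⁻¹ᵁ U) V e').hom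
  refine IsLocHom.of_comp (φ := (j.appLE U (j ⁻¹ᵁ U) le_rfl).hom) ?_ (isLocHom_appLE_of_eq j hUj rfl)
  rw [← CommRingCat.hom_comp, Scheme.Hom.appLE_comp_appLE]
  exact hloc

/-- Being localizing is local on the source. -/
theorem isLocalizing_of_cover {f : X ⟶ Y} (h : ∀ x : X, ∃ (W : Scheme.{u}) (i : W ⟶ X),
    IsOpenImmersion i ∧ x ∈ Set.range i ∧ LocImm.IsLocalizing (i ≫ f)) : LocImm.IsLocalizing f := by
  intro x
  obtain ⟨W, i, _, ⟨w, rfl⟩, hi⟩ := h x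
  obtain ⟨U, V, hwV, e, hloc⟩ := hi w
  have hle : i ''ᵁ V.1 ≤ f ⁻¹ᵁ U.1 := by
    rintro _ ⟨v, hv, rfl⟩
    exact e hv
  refine ⟨U, ⟨i ''ᵁ V.1, V.2.image_of_isOpenImmersion i⟩, ⟨w, hwV, rfl⟩, hle, ?_⟩
  haveI := i.isIso_app (i ''ᵁ V.1) (Set.image_subset_range _ _)
  rw [← Scheme.Hom.appLE_comp_appLE i f U.1 (i ''ᵁ V.1) V.1 hle (i.preimage_image_eq V.1).ge,
    CommRingCat.hom_comp] at hloc
  refine IsLocHom.of_comp_injective' hloc ?_
  have h1 := isLocHom_appLE_of_eq i (U := i ''ᵁ V.1) (Set.image_subset_range _ _) (i.preimage_image_eq V.1).symm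
  have hinj : Function.Bijective (i.appLE (i ''ᵁ V.1) V.1 (i.preimage_image_eq V.1).ge).hom := by
    have : ∀ (V' : W.Opens) (hV' : V' = i ⁻¹ᵁ (i ''ᵁ V.1)), Function.Bijective (i.appLE (i ''ᵁ V.1) V' hV'.le).hom := by
      rintro V' rfl
      rw [Scheme.Hom.appLE_eq_app]
      exact ConcreteCategory.bijective_of_isIso (i.app _)
    exact this _ (i.preimage_image_eq V.1).symm
  exact hinj

theorem IsLocalizing.comp_openImmersion_left {f : X ⟶ Y} (hf : LocImm.IsLocalizing f) (i : Z ⟶ X)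
    [IsOpenImmersion i] : LocImm.IsLocalizing (i ≫ f) :=
  IsLocalizing.comp (isLocalizing_of_isOpenImmersion i) hf

theorem IsLocImmersion.comp {f : X ⟶ Y} {g : Y ⟶ Z} (hf : LocImm.IsLocImmersion f) (hg : LocImm.IsLocImmersion g) :
    LocImm.IsLocImmersion (f ≫ g) :=
  ⟨IsLocalizing.comp hf.1 hg.1, fun a b h => hf.2 (hg.2 h)⟩

theorem isLocImmersion_of_isOpenImmersion (j : X ⟶ Y) [IsOpenImmersion j] : LocImm.IsLocImmersion j :=
  ⟨isLocalizing_of_isOpenImmersion j, j.isOpenEmbedding.injective⟩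

theorem IsLocImmersion.of_comp_openImmersion {f : X ⟶ Y} (j : Y ⟶ Z) [IsOpenImmersion j]
    (h : LocImm.IsLocImmersion (f ≫ j)) : LocImm.IsLocImmersion f :=
  ⟨IsLocalizing.of_comp_openImmersion j h.1, fun a b hab => h.2 (congrArg (fun y => j y) hab)⟩

end Groth.Agent.LocImmLib
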