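import Groth.Agent.LocImmLib.Two
import Mathlib.AlgebraicGeometry.Morphisms.Separated

/-!
# Every separated morphism essentially of finite type factors through a localizing immersion
-/

set_option autoImplicit false
set_option linter.style.haveILetI false
set_option backward.isDefEq.respectTransparency false
set_option backward.isDefEq.respectTransparency.types false

universe u

open CategoryTheory CategoryTheory.Limits AlgebraicGeometry TopologicalSpace Opposite Topology

namespace Groth.Agent.LocImmLib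

variable {X Y S : Scheme.{u}}

theorem isLocImmersion_SpecMap {A B : CommRingCat.{u}} (φ : A ⟶ B) (h : LocImm.IsLocHom φ.hom) :
    LocImm.IsLocImmersion (Spec.map φ) := by
  letI := φ.hom.toAlgebra
  obtain ⟨M, hM⟩ := id h
  haveI : IsPreimmersion (Spec.map φ) := IsPreimmersion.of_isLocalization (R := A) (S := B) M
  refine ⟨fun x => ⟨⟨⊤, isAffineOpen_top _⟩, ⟨⊤, isAffineOpen_top _⟩, trivial, le_top, ?_⟩,
    (Spec.map φ).isEmbedding.injective⟩
  have e : (Spec.map φ).appLE ⊤ ⊤ le_top = (Scheme.ΓSpecIso A).hom ≫ φ ≫ (Scheme.ΓSpecIso B).inv := by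
    rw [← Scheme.ΓSpecIso_naturality_assoc, Iso.hom_inv_id, Category.comp_id]
    exact Scheme.Hom.appLE_eq_app _
  show LocImm.IsLocHom ((Spec.map φ).appLE ⊤ ⊤ le_top).hom
  rw [e, CommRingCat.hom_comp, CommRingCat.hom_comp]
  exact IsLocHom.comp (IsLocHom.comp (isLocHom_of_bijective _ (ConcreteCategory.bijective_of_isIso (Scheme.ΓSpecIso B).inv)) h)
    (isLocHom_of_bijective _ (ConcreteCategory.bijective_of_isIso (Scheme.ΓSpecIso A).hom))

/-- An open has a factorization. -/
def HasFactor (f : X ⟶ S) (V : X.Opens) : Prop :=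
  ∃ (Y : Scheme.{u}) (k : (V : Scheme.{u}) ⟶ Y) (p : Y ⟶ S), IsNoetherian Y ∧ LocImm.IsLocImmersion k ∧
    IsSeparated p ∧ LocallyOfFiniteType p ∧ QuasiCompact p ∧ k ≫ p = V.ι ≫ f

theorem hasFactor_affine [IsNoetherian S] (f : X ⟶ S) {U : S.Opens} {V : X.Opens} (hU : IsAffineOpen U)
    (hV : IsAffineOpen V) (e : V ≤ f ⁻¹ᵁ U) (h : (f.appLE U V e).hom.EssFiniteType) : HasFactor f V := by
  letI := (f.appLE U V e).hom.toAlgebra
  haveI : Algebra.EssFiniteType Γ(S, U) Γ(X, V) := h
  let C := Algebra.EssFiniteType.subalgebra Γ(S, U) Γ(X, V)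
  haveI : IsNoetherianRing Γ(S, U) := IsLocallyNoetherian.component_noetherian ⟨U, hU⟩
  haveI : IsNoetherianRing C := Algebra.FiniteType.isNoetherianRing Γ(S, U) C
  let φ : CommRingCat.of C ⟶ Γ(X, V) := CommRingCat.ofHom C.val.toRingHom
  let ψ : Γ(S, U) ⟶ CommRingCat.of C := CommRingCat.ofHom (algebraMap Γ(S, U) C)
  have hcomp : ψ ≫ φ = f.appLE U V e := rfl
  haveI : LocallyOfFiniteType (Spec.map ψ) :=
    (HasRingHomProperty.Spec_iff (P := @LocallyOfFiniteType)).2 (RingHom.finiteType_algebraMap.2 inferInstance)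
  haveI : IsNoetherian (Spec (CommRingCat.of C)) := inferInstance
  refine ⟨Spec (CommRingCat.of C), hV.isoSpec.hom ≫ Spec.map φ, Spec.map ψ ≫ hU.fromSpec, inferInstance,
    IsLocImmersion.comp (isLocImmersion_of_isOpenImmersion hV.isoSpec.hom) (isLocImmersion_SpecMap φ ?_),
    inferInstance, inferInstance, inferInstance, ?_⟩
  · exact isLocHom_algebraMap (A := C) (B := Γ(X, V)) (Algebra.EssFiniteType.submonoid Γ(S, U) Γ(X, V))
  · rw [Category.assoc, ← Spec.map_comp_assoc, hcomp, IsAffineOpen.SpecMap_appLE_fromSpec f hU hV e,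
      ← Category.assoc]
    congr 1
    rw [IsAffineOpen.fromSpec, Iso.hom_inv_id_assoc]

theorem hasFactor_sup [IsNoetherian X] [IsNoetherian S] (f : X ⟶ S) [IsSeparated f] {A B : X.Opens}
    (hA : HasFactor f A) (hB : HasFactor f B) : HasFactor f (A ⊔ B) := by
  obtain ⟨Y₁, k₁, p₁, _, hk₁, _, _, _, h₁⟩ := hA
  obtain ⟨Y₂, k₂, p₂, _, hk₂, _, _, _, h₂⟩ := hB
  haveI := isNoetherian_opens (A ⊔ B)
  let A' : (↑(A ⊔ B) : Scheme.{u}).Opens := (A ⊔ B).ι ⁻¹ᵁ A
  let B' : (↑(A ⊔ B) : Scheme.{u}).Opens := (A ⊔ B).ι ⁻¹ᵁ B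
  let a : (A' : Scheme.{u}) ⟶ A := IsOpenImmersion.lift A.ι (A'.ι ≫ (A ⊔ B).ι) (by
    rw [Scheme.Opens.range_ι]; rintro _ ⟨z, rfl⟩; exact z.2)
  let b : (B' : Scheme.{u}) ⟶ B := IsOpenImmersion.lift B.ι (B'.ι ≫ (A ⊔ B).ι) (by
    rw [Scheme.Opens.range_ι]; rintro _ ⟨z, rfl⟩; exact z.2)
  have ha : a ≫ A.ι = A'.ι ≫ (A ⊔ B).ι := IsOpenImmersion.lift_fac _ _ _
  have hb : b ≫ B.ι = B'.ι ≫ (A ⊔ B).ι := IsOpenImmersion.lift_fac _ _ _
  haveI : IsOpenImmersion a :=
    haveI : IsOpenImmersion (a ≫ A.ι) := by rw [ha]; infer_instance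
    IsOpenImmersion.of_comp a A.ι
  haveI : IsOpenImmersion b :=
    haveI : IsOpenImmersion (b ≫ B.ι) := by rw [hb]; infer_instance
    IsOpenImmersion.of_comp b B.ι
  exact exists_factor_two ((A ⊔ B).ι ≫ f) A' B'
    (top_le_iff.1 fun z _ => z.2.imp id id) (a ≫ k₁) (b ≫ k₂) p₁ p₂
    (IsLocImmersion.comp (isLocImmersion_of_isOpenImmersion a) hk₁)
    (IsLocImmersion.comp (isLocImmersion_of_isOpenImmersion b) hk₂)
    (by rw [Category.assoc, h₁, reassoc_of% ha]) (by rw [Category.assoc, h₂, reassoc_of% hb])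

/-- Nayak's factorization: a separated morphism essentially of finite type of Noetherian schemes is a localizing
immersion followed by a separated morphism of finite type. -/
theorem exists_factor [IsNoetherian X] [IsNoetherian S] (f : X ⟶ S) [IsSeparated f] [EssFT.EssFiniteType f] :
    ∃ (Y : Scheme.{u}) (k : X ⟶ Y) (p : Y ⟶ S), IsNoetherian Y ∧ LocImm.IsLocImmersion k ∧
      IsSeparated p ∧ LocallyOfFiniteType p ∧ QuasiCompact p ∧ k ≫ p = f := by
  classical
  cases isEmpty_or_nonempty X with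
  | inl hX =>
    haveI : IsOpenImmersion f := by
      haveI : ∀ x, IsIso (f.stalkMap x) := fun x => isEmptyElim x
      refine IsOpenImmersion.of_isIso_stalkMap f
        (Topology.IsOpenEmbedding.of_continuous_injective_isOpenMap f.continuous (fun x => isEmptyElim x) fun O _ => ?_)
      rw [Set.eq_empty_of_isEmpty O, Set.image_empty]
      exact isOpen_empty
    exact ⟨X, 𝟙 X, f, inferInstance, isLocImmersion_of_isOpenImmersion (𝟙 X), inferInstance, inferInstance,
      inferInstance, Category.id_comp f⟩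
  | inr hX =>
    have hloc : EssFT.LocallyEssFiniteType f := inferInstance
    choose U V hxV e he using hloc.exists_appLE_essFiniteType
    obtain ⟨s, hs⟩ := (isCompact_univ (X := X)).elim_finite_subcover (fun x => ((V x).1 : Set X))
      (fun x => (V x).1.2) fun x _ => Set.mem_iUnion.2 ⟨x, hxV x⟩
    have hne : s.Nonempty := by
      obtain ⟨x⟩ := hX
      obtain ⟨i, hi, -⟩ := Set.mem_iUnion₂.1 (hs (Set.mem_univ x))
      exact ⟨i, hi⟩
    have key : HasFactor f (s.sup' hne fun x => (V x).1) :=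
      Finset.sup'_induction hne _ (fun A hA B hB => hasFactor_sup f hA hB)
        fun x _ => hasFactor_affine f (U x).2 (V x).2 (e x) (he x)
    have htop : (s.sup' hne fun x => (V x).1) = ⊤ := top_le_iff.1 fun z _ => by
      obtain ⟨i, hi, hz⟩ := Set.mem_iUnion₂.1 (hs (Set.mem_univ z))
      exact Finset.le_sup' (fun x => (V x).1) hi hz
    rw [htop] at key
    obtain ⟨Y, k, p, hY, hk, hs', hl, hq, h⟩ := key
    exact ⟨Y, X.topIso.inv ≫ k, p, hY, IsLocImmersion.comp (isLocImmersion_of_isOpenImmersion _) hk, hs', hl, hq,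
      by rw [Category.assoc, h, ← Category.assoc, ← Scheme.topIso_hom, Iso.inv_hom_id, Category.id_comp]⟩

end Groth.Agent.LocImmLib
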