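import Groth.Agent.LocImmLib.Space
import Mathlib.AlgebraicGeometry.Morphisms.ClosedImmersion
import Mathlib.AlgebraicGeometry.Morphisms.UniversallyInjective

/-!
# Elementary facts on localizing immersions
-/

set_option autoImplicit false
set_option linter.style.haveILetI false
set_option backward.isDefEq.respectTransparency false

universe u

open CategoryTheory AlgebraicGeometry TopologicalSpace Opposite Topology

namespace Groth.Agent.LocImmLib

variable {X Y Z : Scheme.{u}}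

theorem isPreimmersion_of_isIso_stalkMap [NoetherianSpace X] (f : X ⟶ Y) (h : ∀ x, IsIso (f.stalkMap x))
    (hinj : Function.Injective (fun x => f x)) : IsPreimmersion f where
  stalkMap_surjective x := haveI := h x; (ConcreteCategory.bijective_of_isIso (f.stalkMap x)).2
  isEmbedding := LocImmLib.isEmbedding f h hinj

theorem IsLocImmersion.isPreimmersion [NoetherianSpace X] {f : X ⟶ Y} (hf : LocImm.IsLocImmersion f) :
    IsPreimmersion f :=
  isPreimmersion_of_isIso_stalkMap f (isIso_stalkMap hf.1) hf.2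

/-- A generization-stable closed subset of a Noetherian space is open. -/
theorem isOpen_of_isClosed_of_stableUnderGeneralization [IsNoetherian Y] {R : Set Y} (hc : IsClosed R)
    (hR : StableUnderGeneralization R) : IsOpen R := by
  have key : Rᶜ = ⋃ C ∈ {C ∈ irreducibleComponents (Y : Type u) | ¬ C ⊆ R}, C := by
    ext y
    simp only [Set.mem_compl_iff, Set.mem_iUnion, Set.mem_ofPred_eq, exists_prop]
    constructor
    · intro hy
      exact ⟨irreducibleComponent y, ⟨irreducibleComponent_mem_irreducibleComponents y,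
        fun h => hy (h mem_irreducibleComponent)⟩, mem_irreducibleComponent⟩
    · rintro ⟨C, ⟨hC, hCR⟩, hyC⟩ hyR
      have hgen := hC.1.isGenericPoint_genericPoint (isClosed_of_mem_irreducibleComponents C hC)
      exact hCR fun z hz => (hgen.specializes hz).mem_closed hc (hR (hgen.specializes hyC) hyR)
  rw [← isClosed_compl_iff, key]
  exact (NoetherianSpace.finite_irreducibleComponents.subset fun C hC => hC.1).isClosed_biUnion
    fun C hC => isClosed_of_mem_irreducibleComponents C hC.1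

/-- A localizing immersion with closed image is an open immersion. -/
theorem IsLocImmersion.isOpenImmersion_of_isClosed [IsNoetherian X] [IsNoetherian Y] {f : X ⟶ Y}
    (hf : LocImm.IsLocImmersion f) (hc : IsClosed (Set.range (fun x => f x))) : IsOpenImmersion f :=
  haveI := isIso_stalkMap hf.1
  IsOpenImmersion.of_isIso_stalkMap f ⟨IsLocImmersion.isEmbedding hf,
    isOpen_of_isClosed_of_stableUnderGeneralization hc (IsLocImmersion.stableUnderGeneralization_range hf)⟩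

/-- A dominant left factor of a localizing immersion has injective maps on local rings. -/
theorem stalkMap_injective_of_app_injective (f : X ⟶ Y) (hd : ∀ U : Y.Opens, Function.Injective (f.app U).hom)
    (hemb : IsEmbedding (fun x => f x)) (x : X) : Function.Injective (f.stalkMap x).hom := by
  rw [injective_iff_map_eq_zero]
  intro s hs
  obtain ⟨U, hU, t, rfl⟩ := Y.presheaf.exists_germ_eq s
  have hs' : X.presheaf.germ (f ⁻¹ᵁ U) x hU (f.app U t) = 0 := by
    rw [← Scheme.Hom.germ_stalkMap_apply]; exact hs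
  obtain ⟨V, hxV, i₁, i₂, hV⟩ := X.presheaf.germ_eq
    (U := f ⁻¹ᵁ U) (V := f ⁻¹ᵁ U) x hU hU (f.app U t) 0 (hs'.trans (map_zero _).symm)
  obtain ⟨W, hW, hWV⟩ := hemb.isInducing.isOpen_iff.1 V.2
  let W' : Y.Opens := U ⊓ ⟨W, hW⟩
  have hxW : f x ∈ W' := ⟨hU, show x ∈ (fun x => f x) ⁻¹' W from hWV.symm ▸ (hxV : x ∈ V.carrier)⟩
  have hle : f ⁻¹ᵁ W' ≤ V := fun z hz => show z ∈ V.carrier from hWV ▸ hz.2
  have h0 : Y.presheaf.map (homOfLE (inf_le_left : W' ≤ U)).op t = 0 := by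
    apply hd W'
    rw [map_zero, ← ConcreteCategory.comp_apply, Scheme.Hom.naturality, ConcreteCategory.comp_apply]
    have h1 := congrArg (X.presheaf.map (homOfLE hle).op) hV
    rw [map_zero, map_zero, ← ConcreteCategory.comp_apply, ← Functor.map_comp] at h1
    exact h1
  rw [← Y.presheaf.germ_res_apply (homOfLE (inf_le_left : W' ≤ U)) (f x) hxW t, h0, map_zero]

/-- A schematically dense left factor of a localizing immersion is a localizing immersion. -/
theorem IsLocImmersion.of_comp_app_injective [NoetherianSpace X] (f : X ⟶ Y) (g : Y ⟶ Z)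
    (hfg : LocImm.IsLocImmersion (f ≫ g)) (hd : ∀ U : Y.Opens, Function.Injective (f.app U).hom) :
    LocImm.IsLocImmersion f := by
  have hemb : IsEmbedding (fun x => f x) :=
    IsEmbedding.of_comp f.continuous g.continuous (IsLocImmersion.isEmbedding hfg)
  refine ⟨fun x => ?_, hemb.injective⟩
  obtain ⟨U, hxU, -, hU, hfgU, hloc⟩ := IsLocImmersion.exists_chart hfg x (N := (⊤ : Z.Opens)) trivial
  obtain ⟨N, hN, hxN, hNU⟩ := exists_isAffineOpen_mem_and_subset (x := f x) (U := g ⁻¹ᵁ U) hxU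
  -- shrink `U` so that its preimage lies over `N`
  obtain ⟨W, hW, hWV⟩ := (IsLocImmersion.isEmbedding hfg).isInducing.isOpen_iff.1 (f ⁻¹ᵁ N).2
  have hxW : (f ≫ g) x ∈ W := show x ∈ (fun x => (f ≫ g) x) ⁻¹' W from hWV.symm ▸ (hxN : x ∈ (f ⁻¹ᵁ N).carrier)
  obtain ⟨a, ha, hxa⟩ := hU.exists_basicOpen_le (V := (⟨W, hW⟩ : Z.Opens)) ⟨(f ≫ g) x, hxW⟩ hxU
  obtain ⟨h1, h2⟩ := chart_basicOpen (f ≫ g) hU hfgU le_rfl (by rwa [Scheme.Hom.appLE_eq_app]) a
  have hN'aff : IsAffineOpen (N ⊓ g ⁻¹ᵁ Z.basicOpen a) := by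
    rw [← basicOpen_appLE_eq g hNU a]; exact hN.basicOpen _
  have hpre : f ⁻¹ᵁ (N ⊓ g ⁻¹ᵁ Z.basicOpen a) = (f ≫ g) ⁻¹ᵁ U ⊓ (f ≫ g) ⁻¹ᵁ Z.basicOpen a := by
    refine le_antisymm (fun z hz => ⟨Z.basicOpen_le a hz.2, hz.2⟩) fun z hz => ⟨?_, hz.2⟩
    show z ∈ (f ⁻¹ᵁ N).carrier
    rw [← hWV]
    exact ha hz.2
  refine ⟨⟨_, hN'aff⟩, ⟨f ⁻¹ᵁ (N ⊓ g ⁻¹ᵁ Z.basicOpen a), hpre ▸ h1⟩, ⟨hxN, hxa⟩, le_rfl, ?_⟩
  show LocImm.IsLocHom (f.appLE (N ⊓ g ⁻¹ᵁ Z.basicOpen a) (f ⁻¹ᵁ (N ⊓ g ⁻¹ᵁ Z.basicOpen a)) le_rfl).hom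
  refine IsLocHom.of_comp_injective
    (φ := (g.appLE (Z.basicOpen a) (N ⊓ g ⁻¹ᵁ Z.basicOpen a) inf_le_right).hom) ?_ ?_
  · rw [← CommRingCat.hom_comp, Scheme.Hom.appLE_comp_appLE]
    suffices ∀ (V : X.Opens) (hV : V = (f ≫ g) ⁻¹ᵁ U ⊓ (f ≫ g) ⁻¹ᵁ Z.basicOpen a)
        (e' : V ≤ (f ≫ g) ⁻¹ᵁ Z.basicOpen a),
        LocImm.IsLocHom ((f ≫ g).appLE (Z.basicOpen a) V e').hom from this _ hpre _
    rintro V rfl e'
    exact h2
  · rw [Scheme.Hom.appLE_eq_app]; exact hd _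

theorem isLocImmersion_iff_charts [NoetherianSpace X] (f : X ⟶ Y) :
    LocImm.IsLocImmersion f ↔ ∀ x : X, ∃ V : Y.Opens, f x ∈ V ∧ IsAffineOpen V ∧ IsAffineOpen (f ⁻¹ᵁ V) ∧
      LocImm.IsLocHom (f.app V).hom := by
  refine ⟨fun hf x => ?_, fun h => ⟨fun x => ?_, fun a b hab => ?_⟩⟩
  · obtain ⟨U, hx, -, hU, hfU, hloc⟩ := IsLocImmersion.exists_chart hf x (N := (⊤ : Y.Opens)) trivial
    exact ⟨U, hx, hU, hfU, hloc⟩
  · obtain ⟨V, hx, hV, hfV, hloc⟩ := h x
    exact ⟨⟨V, hV⟩, ⟨_, hfV⟩, hx, le_rfl, by rwa [Scheme.Hom.appLE_eq_app]⟩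
  · obtain ⟨V, hx, hV, hfV, hloc⟩ := h a
    have hb : b ∈ f ⁻¹ᵁ V := show f b ∈ V from hab ▸ hx
    letI := (f.app V).hom.toAlgebra
    obtain ⟨M, hM⟩ := hloc
    have h1 : IsPreimmersion (Spec.map (f.app V)) := IsPreimmersion.of_isLocalization (R := Γ(Y, V)) (S := Γ(X, f ⁻¹ᵁ V)) M
    have e1 := hV.SpecMap_appLE_fromSpec f hfV le_rfl
    rw [Scheme.Hom.appLE_eq_app] at e1
    haveI : IsPreimmersion (hfV.fromSpec ≫ f) := by rw [← e1]; infer_instance
    obtain ⟨p, rfl⟩ : a ∈ Set.range hfV.fromSpec := by rw [hfV.range_fromSpec]; exact hx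
    obtain ⟨q, rfl⟩ : b ∈ Set.range hfV.fromSpec := by rw [hfV.range_fromSpec]; exact hb
    rw [(hfV.fromSpec ≫ f).isEmbedding.injective (show (hfV.fromSpec ≫ f) p = (hfV.fromSpec ≫ f) q from hab)]

end Groth.Agent.LocImmLib
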