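import Groth.Agent.LocImmLib.Facts
import Groth.Agent.AlgGlue.RelSystem
import Groth.Agent.AlgGlue.Absolute

/-!
# Glueing factorizations through localizing immersions
-/

set_option autoImplicit false
set_option linter.style.haveILetI false
set_option backward.isDefEq.respectTransparency false
set_option backward.isDefEq.respectTransparency.types false

universe u

open CategoryTheory CategoryTheory.Limits AlgebraicGeometry TopologicalSpace Opposite Topology

namespace Groth.Agent.LocImmLib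

variable {X Y S : Scheme.{u}}

theorem isNoetherian_of_finiteType (f : X ⟶ S) [IsNoetherian S] [LocallyOfFiniteType f] [QuasiCompact f] :
    IsNoetherian X :=
  haveI := LocallyOfFiniteType.isLocallyNoetherian f
  haveI : CompactSpace X := QuasiCompact.compactSpace_of_compactSpace f
  { }

theorem app_injective_toImage {W P : Scheme.{u}} (m : W ⟶ P) [QuasiCompact m] (U : m.image.Opens) :
    Function.Injective (m.toImage.app U).hom :=
  TopCat.Presheaf.app_injective_of_stalkFunctor_map_injective (F := m.image.sheaf) m.toImage.c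
    U fun x _ => m.stalkFunctor_toImage_injective x

theorem range_imageι {W P : Scheme.{u}} (m : W ⟶ P) [QuasiCompact m] :
    Set.range (fun z => m.imageι z) = closure (Set.range (fun w => m w)) := by
  show Set.range m.ker.subschemeι = _
  rw [Scheme.IdealSheafData.range_subschemeι, Scheme.Hom.support_ker]

/-- The image of a scheme mapping by localizing immersions into two schemes of finite type is open in both
near the scheme. -/
theorem exists_open_image {W Y₁ Y₂ : Scheme.{u}} [IsNoetherian W] [IsNoetherian S] [IsNoetherian Y₁] [IsNoetherian Y₂]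
    (k₁ : W ⟶ Y₁) (k₂ : W ⟶ Y₂) (p₁ : Y₁ ⟶ S) (p₂ : Y₂ ⟶ S) [LocallyOfFiniteType p₁] [LocallyOfFiniteType p₂]
    [QuasiCompact p₁] [QuasiCompact p₂] (h : k₁ ≫ p₁ = k₂ ≫ p₂)
    (h₁ : LocImm.IsLocImmersion k₁) (h₂ : LocImm.IsLocImmersion k₂) :
    LocImm.IsLocImmersion (pullback.lift k₁ k₂ h).toImage ∧
    ∃ N : (pullback.lift k₁ k₂ h).image.Opens,
      Set.range (fun w => (pullback.lift k₁ k₂ h).toImage w) ⊆ (N : Set _) ∧
      IsOpenImmersion (N.ι ≫ (pullback.lift k₁ k₂ h).imageι ≫ pullback.fst p₁ p₂) ∧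
      IsOpenImmersion (N.ι ≫ (pullback.lift k₁ k₂ h).imageι ≫ pullback.snd p₁ p₂) := by
  let m : W ⟶ pullback p₁ p₂ := pullback.lift k₁ k₂ h
  haveI : IsNoetherian (pullback p₁ p₂) := isNoetherian_of_finiteType (pullback.fst p₁ p₂ ≫ p₁)
  haveI : IsNoetherian m.image := isNoetherian_of_finiteType m.imageι
  haveI : QuasiCompact m := inferInstance
  have hd := app_injective_toImage m
  have e₁ : m.toImage ≫ (m.imageι ≫ pullback.fst p₁ p₂) = k₁ := by
    rw [← Category.assoc, Scheme.Hom.toImage_imageι, pullback.lift_fst]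
  have e₂ : m.toImage ≫ (m.imageι ≫ pullback.snd p₁ p₂) = k₂ := by
    rw [← Category.assoc, Scheme.Hom.toImage_imageι, pullback.lift_snd]
  have hj : LocImm.IsLocImmersion m.toImage :=
    IsLocImmersion.of_comp_app_injective m.toImage (m.imageι ≫ pullback.fst p₁ p₂) (e₁ ▸ h₁) hd
  have key : ∀ (Y' : Scheme.{u}) (_ : IsLocallyNoetherian Y') (q : m.image ⟶ Y') (_ : LocallyOfFiniteType q)
      (_ : LocImm.IsLocImmersion (m.toImage ≫ q)),
      ∃ N : m.image.Opens, Set.range (fun w => m.toImage w) ⊆ (N : Set _) ∧ IsOpenImmersion (N.ι ≫ q) := by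
    intro Y' _ q _ hq
    refine exists_open_isOpenImmersion q (IsLocImmersion.stableUnderGeneralization_range hj) ?_ ?_
    · rintro _ ⟨w, rfl⟩
      have h0 := isIso_stalkMap hq.1 w
      rw [Scheme.Hom.stalkMap_comp] at h0
      haveI := h0
      haveI := isIso_stalkMap hj.1 w
      exact @IsIso.of_isIso_comp_right _ _ _ _ _ (q.stalkMap _) (m.toImage.stalkMap w) inferInstance h0
    · rintro _ ⟨a, rfl⟩ _ ⟨b, rfl⟩ hab
      exact congrArg (fun w => m.toImage w) (hq.2 hab)
  obtain ⟨N₁, hN₁, hq₁⟩ := key Y₁ inferInstance (m.imageι ≫ pullback.fst p₁ p₂) inferInstance (e₁.symm ▸ h₁)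
  obtain ⟨N₂, hN₂, hq₂⟩ := key Y₂ inferInstance (m.imageι ≫ pullback.snd p₁ p₂) inferInstance (e₂.symm ▸ h₂)
  refine ⟨hj, N₁ ⊓ N₂, fun z hz => ⟨hN₁ hz, hN₂ hz⟩, ?_, ?_⟩
  · rw [← m.image.homOfLE_ι (inf_le_left : N₁ ⊓ N₂ ≤ N₁), Category.assoc]; infer_instance
  · rw [← m.image.homOfLE_ι (inf_le_right : N₁ ⊓ N₂ ≤ N₂), Category.assoc]; infer_instance

/-- Separatedness of a scheme covered by two separated pieces with closed overlap graph. -/
theorem isSeparated_of_two {A B O : Scheme.{u}} (q : Y ⟶ S) (a : A ⟶ Y) (b : B ⟶ Y) [IsOpenImmersion a]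
    [IsOpenImmersion b] (hcov : ∀ y, (∃ x, a x = y) ∨ ∃ x, b x = y) (α : O ⟶ A) (β : O ⟶ B)
    (hc : α ≫ a = β ≫ b) (hover : ∀ x x', a x = b x' → ∃ o, α o = x ∧ β o = x')
    [IsSeparated (a ≫ q)] [IsSeparated (b ≫ q)]
    [IsClosedImmersion (pullback.lift α β (show α ≫ (a ≫ q) = β ≫ (b ≫ q) by rw [reassoc_of% hc]))] :
    IsSeparated q := by
  refine ⟨?_⟩
  suffices hR : IsClosed (Set.range (pullback.diagonal q)) by
    exact IsClosedImmersion.of_isPreimmersion _ hR
  -- the test on a product of two pieces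
  have key : ∀ {A' B' : Scheme.{u}} (a' : A' ⟶ Y) (b' : B' ⟶ Y) [IsOpenImmersion a'] [IsOpenImmersion b']
      {O' : Scheme.{u}} (α' : O' ⟶ A') (β' : O' ⟶ B') (hc' : α' ≫ a' = β' ≫ b')
      (hl : IsClosed (Set.range (pullback.lift α' β' (show α' ≫ (a' ≫ q) = β' ≫ (b' ≫ q) by rw [reassoc_of% hc']))))
      (hov : ∀ x x', a' x = b' x' → ∃ o, α' o = x ∧ β' o = x'),
      IsClosed ((pullback.map (a' ≫ q) (b' ≫ q) q q a' b' (𝟙 S) (by simp) (by simp)) ⁻¹' Set.range (pullback.diagonal q)) := by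
    intro A' B' a' b' _ _ O' α' β' hc' hl hov
    let μ := pullback.map (a' ≫ q) (b' ≫ q) q q a' b' (𝟙 S) (by simp) (by simp)
    let δ := pullback.lift α' β' (show α' ≫ (a' ≫ q) = β' ≫ (b' ≫ q) by rw [reassoc_of% hc'])
    have hδ : δ ≫ μ = (α' ≫ a') ≫ pullback.diagonal q := by
      ext <;> simp [δ, μ, hc']
    suffices μ ⁻¹' Set.range (pullback.diagonal q) = Set.range δ from this ▸ hl
    ext t
    constructor
    · rintro ⟨y, hy⟩
      have h1 : a' (pullback.fst (a' ≫ q) (b' ≫ q) t) = y := by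
        show (pullback.fst (a' ≫ q) (b' ≫ q) ≫ a') t = y
        rw [show pullback.fst (a' ≫ q) (b' ≫ q) ≫ a' = μ ≫ pullback.fst q q by simp [μ], Scheme.Hom.comp_apply,
          ← hy, ← Scheme.Hom.comp_apply, pullback.diagonal_fst]
        rfl
      have h2 : b' (pullback.snd (a' ≫ q) (b' ≫ q) t) = y := by
        show (pullback.snd (a' ≫ q) (b' ≫ q) ≫ b') t = y
        rw [show pullback.snd (a' ≫ q) (b' ≫ q) ≫ b' = μ ≫ pullback.snd q q by simp [μ], Scheme.Hom.comp_apply,
          ← hy, ← Scheme.Hom.comp_apply, pullback.diagonal_snd]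
        rfl
      obtain ⟨o, ho1, -⟩ := hov _ _ (h1.trans h2.symm)
      refine ⟨o, μ.isOpenEmbedding.injective ?_⟩
      show (δ ≫ μ) o = μ t
      rw [hδ, Scheme.Hom.comp_apply, Scheme.Hom.comp_apply, ho1, h1, hy]
    · rintro ⟨o, rfl⟩
      exact ⟨(α' ≫ a') o, by rw [← Scheme.Hom.comp_apply, ← hδ]; rfl⟩
  have hlAA : IsClosed (Set.range (pullback.lift (𝟙 A) (𝟙 A) (show 𝟙 A ≫ (a ≫ q) = 𝟙 A ≫ (a ≫ q) from rfl))) :=
    (pullback.diagonal (a ≫ q)).isClosedEmbedding.isClosed_range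
  have hlBB : IsClosed (Set.range (pullback.lift (𝟙 B) (𝟙 B) (show 𝟙 B ≫ (b ≫ q) = 𝟙 B ≫ (b ≫ q) from rfl))) :=
    (pullback.diagonal (b ≫ q)).isClosedEmbedding.isClosed_range
  have hlAB : IsClosed (Set.range (pullback.lift α β (show α ≫ (a ≫ q) = β ≫ (b ≫ q) by rw [reassoc_of% hc]))) :=
    (pullback.lift α β (show α ≫ (a ≫ q) = β ≫ (b ≫ q) by rw [reassoc_of% hc])).isClosedEmbedding.isClosed_range
  have hlBA : IsClosed (Set.range (pullback.lift β α (show β ≫ (b ≫ q) = α ≫ (a ≫ q) by rw [reassoc_of% hc]))) := by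
    rw [show pullback.lift β α (show β ≫ (b ≫ q) = α ≫ (a ≫ q) by rw [reassoc_of% hc]) =
      pullback.lift α β (show α ≫ (a ≫ q) = β ≫ (b ≫ q) by rw [reassoc_of% hc]) ≫ (pullbackSymmetry _ _).hom by
      ext <;> simp]
    exact (pullback.lift α β _ ≫ (pullbackSymmetry _ _).hom).isClosedEmbedding.isClosed_range
  have kAA := key a a (𝟙 A) (𝟙 A) rfl hlAA
    fun x x' h => ⟨x, rfl, a.isOpenEmbedding.injective h⟩
  have kBB := key b b (𝟙 B) (𝟙 B) rfl hlBB
    fun x x' h => ⟨x, rfl, b.isOpenEmbedding.injective h⟩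
  have kAB := key a b α β hc hlAB hover
  have kBA := key b a β α hc.symm hlBA fun x x' h => by
    obtain ⟨o, h1, h2⟩ := hover x' x h.symm
    exact ⟨o, h2, h1⟩
  -- the products cover
  have cl : ∀ {Z : Scheme.{u}} (μ : Z ⟶ pullback q q) [IsOpenImmersion μ], IsClosed (μ ⁻¹' Set.range (pullback.diagonal q)) →
      IsOpen (Set.range μ \ Set.range (pullback.diagonal q)) := by
    intro Z μ _ hμ
    have : Set.range μ \ Set.range (pullback.diagonal q) = μ '' (μ ⁻¹' Set.range (pullback.diagonal q))ᶜ := by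
      ext t
      constructor
      · rintro ⟨⟨z, rfl⟩, hz⟩; exact ⟨z, hz, rfl⟩
      · rintro ⟨z, hz, rfl⟩; exact ⟨⟨z, rfl⟩, hz⟩
    rw [this]
    exact μ.isOpenEmbedding.isOpenMap _ hμ.isOpen_compl
  rw [← isOpen_compl_iff]
  have hU : (Set.range (pullback.diagonal q))ᶜ =
      ((Set.range (pullback.map (a ≫ q) (a ≫ q) q q a a (𝟙 S) (by simp) (by simp)) \ Set.range (pullback.diagonal q)) ∪
      (Set.range (pullback.map (a ≫ q) (b ≫ q) q q a b (𝟙 S) (by simp) (by simp)) \ Set.range (pullback.diagonal q))) ∪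
      ((Set.range (pullback.map (b ≫ q) (a ≫ q) q q b a (𝟙 S) (by simp) (by simp)) \ Set.range (pullback.diagonal q)) ∪
      (Set.range (pullback.map (b ≫ q) (b ≫ q) q q b b (𝟙 S) (by simp) (by simp)) \ Set.range (pullback.diagonal q))) := by
    ext t
    simp only [Set.mem_union, Set.mem_diff, Set.mem_compl_iff, Scheme.Pullback.range_map, Set.mem_inter_iff,
      Set.mem_preimage, Set.mem_range]
    refine ⟨fun ht => ?_, by tauto⟩
    rcases hcov (pullback.fst q q t) with h1 | h1 <;> rcases hcov (pullback.snd q q t) with h2 | h2 <;> tauto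
  rw [hU]
  exact ((cl _ kAA).union (cl _ kAB)).union ((cl _ kBA).union (cl _ kBB))

end Groth.Agent.LocImmLib
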