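import Groth.Prelude.Def_W4c5cptfessfintypeLocImm
import Mathlib.RingTheory.Localization.Away.Basic

/-!
# Ring maps that are localizations
-/

set_option autoImplicit false
set_option linter.style.haveILetI false

universe u v w

namespace Groth.Agent.LocImmLib

variable {A : Type u} {B : Type v} {C : Type w} [CommRing A] [CommRing B] [CommRing C]

theorem isLocHom_iff (φ : A →+* B) : LocImm.IsLocHom φ ↔
    (∀ c : B, ∃ a s : A, IsUnit (φ s) ∧ c * φ s = φ a) ∧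
      ∀ a b : A, φ a = φ b → ∃ s, IsUnit (φ s) ∧ s * a = s * b := by
  letI := φ.toAlgebra
  constructor
  · rintro ⟨M, hM⟩
    obtain ⟨h1, h2, h3⟩ := (isLocalization_iff M B).1 hM
    refine ⟨fun c => ?_, fun a b hab => ?_⟩
    · obtain ⟨⟨a, s⟩, hs⟩ := h2 c
      exact ⟨a, s, h1 s, hs⟩
    · obtain ⟨s, hs⟩ := h3 (x := a) (y := b) hab
      exact ⟨s, h1 s, hs⟩
  · rintro ⟨h1, h2⟩
    refine ⟨(IsUnit.submonoid B).comap φ.toMonoidHom, (isLocalization_iff _ B).2 ⟨fun y => y.2, fun c => ?_, fun {a b} hab => ?_⟩⟩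
    · obtain ⟨a, s, hs, h⟩ := h1 c
      exact ⟨(a, ⟨s, hs⟩), h⟩
    · obtain ⟨s, hs, h⟩ := h2 a b hab
      exact ⟨⟨s, hs⟩, h⟩

theorem isLocHom_of_bijective (φ : A →+* B) (h : Function.Bijective φ) : LocImm.IsLocHom φ :=
  (isLocHom_iff φ).2 ⟨fun c => by
    obtain ⟨a, rfl⟩ := h.2 c
    exact ⟨a, 1, by rw [map_one]; exact isUnit_one, by rw [map_one, mul_one]⟩,
    fun a b hab => ⟨1, by rw [map_one]; exact isUnit_one, by rw [h.1 hab]⟩⟩

theorem isLocHom_algebraMap [Algebra A B] (M : Submonoid A) [IsLocalization M B] :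
    LocImm.IsLocHom (algebraMap A B) := by
  obtain ⟨h1, h2, h3⟩ := (isLocalization_iff M B).1 ‹IsLocalization M B›
  refine (isLocHom_iff _).2 ⟨fun c => ?_, fun a b hab => ?_⟩
  · obtain ⟨⟨a, s⟩, hs⟩ := h2 c
    exact ⟨a, s, h1 s, hs⟩
  · obtain ⟨s, hs⟩ := h3 hab
    exact ⟨s, h1 s, hs⟩

theorem IsLocHom.comp {φ : A →+* B} {ψ : B →+* C} (hψ : LocImm.IsLocHom ψ) (hφ : LocImm.IsLocHom φ) :
    LocImm.IsLocHom (ψ.comp φ) := by
  obtain ⟨a1, a2⟩ := (isLocHom_iff φ).1 hφ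
  obtain ⟨b1, b2⟩ := (isLocHom_iff ψ).1 hψ
  refine (isLocHom_iff _).2 ⟨fun c => ?_, fun a b hab => ?_⟩
  · obtain ⟨x, t, ht, hc⟩ := b1 c
    obtain ⟨a, s, hs, hx⟩ := a1 x
    obtain ⟨a', s', hs', ht'⟩ := a1 t
    refine ⟨a * s', a' * s, ?_, ?_⟩
    · rw [RingHom.comp_apply, map_mul, map_mul, ← ht', map_mul]
      exact (ht.mul (hs'.map ψ)).mul (hs.map ψ)
    · simp only [RingHom.comp_apply, map_mul, ← hx, ← ht', ← hc]
      ring
  · obtain ⟨t, ht, h⟩ := b2 _ _ hab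
    obtain ⟨a', s', hs', ht'⟩ := a1 t
    obtain ⟨u, hu, he⟩ := a2 (a' * a) (a' * b) (by
      simp only [map_mul, ← ht']
      calc t * φ s' * φ a = φ s' * (t * φ a) := by ring
        _ = φ s' * (t * φ b) := by rw [h]
        _ = t * φ s' * φ b := by ring)
    refine ⟨u * a', ?_, by rw [mul_assoc, mul_assoc, he]⟩
    rw [RingHom.comp_apply, map_mul, ← ht', map_mul, map_mul]
    exact (hu.map ψ).mul (ht.mul (hs'.map ψ))

/-- A map which becomes a localization after composing with a localization is a localization. -/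
theorem IsLocHom.of_comp {φ : A →+* B} {ψ : B →+* C} (h : LocImm.IsLocHom (ψ.comp φ)) (hφ : LocImm.IsLocHom φ) :
    LocImm.IsLocHom ψ := by
  obtain ⟨a1, a2⟩ := (isLocHom_iff φ).1 hφ
  obtain ⟨c1, c2⟩ := (isLocHom_iff _).1 h
  refine (isLocHom_iff ψ).2 ⟨fun c => ?_, fun x y hxy => ?_⟩
  · obtain ⟨a, s, hs, hc⟩ := c1 c
    exact ⟨φ a, φ s, hs, hc⟩
  · obtain ⟨a, s, hs, hx⟩ := a1 x
    obtain ⟨b, t, ht, hy⟩ := a1 y
    obtain ⟨u, hu, he⟩ := c2 (a * t) (b * s) (by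
      simp only [RingHom.comp_apply, map_mul, ← hx, ← hy, hxy]
      ring)
    refine ⟨φ u, hu, (hs.mul ht).mul_left_injective ?_⟩
    have h1 := congrArg φ he
    simp only [map_mul, ← hx, ← hy] at h1
    linear_combination h1

/-- A map into an injective map with localization composite is a localization. -/
theorem IsLocHom.of_comp_injective {φ : A →+* B} {ψ : B →+* C} (h : LocImm.IsLocHom (ψ.comp φ))
    (hψ : Function.Injective ψ) : LocImm.IsLocHom ψ := by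
  obtain ⟨c1, -⟩ := (isLocHom_iff _).1 h
  refine (isLocHom_iff ψ).2 ⟨fun c => ?_, fun x y hxy => ⟨1, by rw [map_one]; exact isUnit_one, by rw [hψ hxy]⟩⟩
  obtain ⟨a, s, hs, hc⟩ := c1 c
  exact ⟨φ a, φ s, hs, hc⟩

/-- Cancelling a bijection on the left. -/
theorem IsLocHom.of_comp_injective' {φ : A →+* B} {ψ : B →+* C} (h : LocImm.IsLocHom (ψ.comp φ))
    (hψ : Function.Bijective ψ) : LocImm.IsLocHom φ := by
  obtain ⟨c1, c2⟩ := (isLocHom_iff _).1 h
  refine (isLocHom_iff φ).2 ⟨fun c => ?_, fun x y hxy => ?_⟩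
  · obtain ⟨a, s, hs, hc⟩ := c1 (ψ c)
    exact ⟨a, s, (isUnit_map_iff (RingEquiv.ofBijective ψ hψ) (φ s)).1 hs, hψ.1 (by rw [map_mul]; exact hc)⟩
  · obtain ⟨s, hs, he⟩ := c2 x y (congrArg ψ hxy)
    exact ⟨s, (isUnit_map_iff (RingEquiv.ofBijective ψ hψ) (φ s)).1 hs, he⟩

end Groth.Agent.LocImmLib
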