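import Groth.Agent.LocImmLib.Factor
import Groth.Agent.FlatLocus.Basic
import Groth.Agent.AlgGlue.ZMT
import Groth.Agent.ModPairLib.Basic
import Mathlib.RingTheory.Localization.BaseChange

/-!
# Further properties of localizing immersions
-/

set_option autoImplicit false
set_option linter.style.haveILetI false
set_option backward.isDefEq.respectTransparency false
set_option backward.isDefEq.respectTransparency.types false

universe u

open CategoryTheory CategoryTheory.Limits AlgebraicGeometry TopologicalSpace Opposite Topology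
open scoped TensorProduct

namespace Groth.Agent.LocImmLib

variable {W X Y S : Scheme.{u}}

theorem isLocImmersion_fromSpecStalk (y : Y) : LocImm.IsLocImmersion (Y.fromSpecStalk y) := by
  obtain ⟨U, hU, hyU, -⟩ := exists_isAffineOpen_mem_and_subset (x := y) (U := ⊤) (Set.mem_univ _)
  rw [← hU.fromSpecStalk_eq_fromSpecStalk hyU, IsAffineOpen.fromSpecStalk]
  refine IsLocImmersion.comp (isLocImmersion_SpecMap _ ?_) (isLocImmersion_of_isOpenImmersion _)
  letI := TopCat.Presheaf.algebra_section_stalk Y.presheaf (U := U) ⟨y, hyU⟩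
  haveI := hU.isLocalization_stalk ⟨y, hyU⟩
  exact isLocHom_algebraMap (A := Γ(Y, U)) (B := Y.presheaf.stalk y) (hU.primeIdealOf ⟨y, hyU⟩).asIdeal.primeCompl

/-- A localizing morphism followed by a morphism of finite type is essentially of finite type. -/
theorem locallyEssFiniteType_comp {i : W ⟶ X} (hi : LocImm.IsLocalizing i) (p : X ⟶ S) [LocallyOfFiniteType p] :
    EssFT.LocallyEssFiniteType (i ≫ p) := by
  refine ⟨fun w => ?_⟩
  obtain ⟨U, hU, hwU, -⟩ := exists_isAffineOpen_mem_and_subset (x := (i ≫ p) w) (U := ⊤) (Set.mem_univ _)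
  obtain ⟨A, B, hA, hB, e, hwB, hAU, h⟩ := exists_chart_le hi w (N := p ⁻¹ᵁ U) hwU
  refine ⟨⟨U, hU⟩, ⟨B, hB⟩, hwB, e.trans (i.preimage_mono hAU), ?_⟩
  rw [← Scheme.Hom.appLE_comp_appLE i p U A B hAU e, CommRingCat.hom_comp]
  letI := (i.appLE A B e).hom.toAlgebra
  obtain ⟨M, hM⟩ := h
  exact RingHom.EssFiniteType.comp (RingHom.FiniteType.essFiniteType (p.finiteType_appLE hU hA hAU))
    (RingHom.EssFiniteType.holdsForLocalization _ M)

theorem essFiniteType_comp [IsNoetherian W] {i : W ⟶ X} (hi : LocImm.IsLocalizing i) (p : X ⟶ S)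
    [LocallyOfFiniteType p] : EssFT.EssFiniteType (i ≫ p) :=
  haveI := locallyEssFiniteType_comp hi p
  haveI : QuasiCompact (i ≫ p) := inferInstance
  { }

theorem essFiniteType_of_finiteType [IsNoetherian X] (p : X ⟶ S) [LocallyOfFiniteType p] : EssFT.EssFiniteType p :=
  Category.id_comp p ▸ essFiniteType_comp (isLocalizing_of_isOpenImmersion (𝟙 X)) p

theorem isNoetherian_stalk [IsNoetherian Y] (y : Y) : IsNoetherian (Spec (Y.presheaf.stalk y)) :=
  inferInstance

/-- `S18194` -/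
theorem exists_open_restrict_isLocImmersion {Y₁ Y₂ : Scheme.{u}} [IsNoetherian Y₁] [IsNoetherian Y₂]
    (f₁ : X ⟶ Y₁) (g : Y₁ ⟶ Y₂) (hf₁ : LocImm.IsLocImmersion f₁) (hf₂ : LocImm.IsLocImmersion (f₁ ≫ g))
    [IsSeparated g] [EssFT.EssFiniteType g] :
    ∃ U : Y₁.Opens, Set.range (fun x => f₁ x) ⊆ (U : Set Y₁) ∧ LocImm.IsLocImmersion (U.ι ≫ g) := by
  obtain ⟨P, i, h, hP, hi, _, hlf, -, rfl⟩ := exists_factor g
  haveI := hP
  haveI := hlf
  have hf₁i := IsLocImmersion.comp hf₁ hi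
  have hf₂' : LocImm.IsLocImmersion ((f₁ ≫ i) ≫ h) := by rwa [Category.assoc]
  obtain ⟨N, hN, hNh⟩ := exists_open_isOpenImmersion h (IsLocImmersion.stableUnderGeneralization_range hf₁i)
    (by
      rintro _ ⟨x, rfl⟩
      have h0 := isIso_stalkMap hf₂'.1 x
      rw [Scheme.Hom.stalkMap_comp] at h0
      haveI := h0
      haveI := isIso_stalkMap hf₁i.1 x
      exact @IsIso.of_isIso_comp_right _ _ _ _ _ (h.stalkMap _) ((f₁ ≫ i).stalkMap x) inferInstance h0)
    (by rintro _ ⟨a, rfl⟩ _ ⟨b, rfl⟩ hab; exact congrArg (fun w => (f₁ ≫ i) w) (hf₂'.2 hab))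
  refine ⟨i ⁻¹ᵁ N, fun y hy => by obtain ⟨x, rfl⟩ := hy; exact hN ⟨x, rfl⟩, ?_⟩
  let i' : (↑(i ⁻¹ᵁ N) : Scheme.{u}) ⟶ N := i ∣_ N
  have e : (i ⁻¹ᵁ N).ι ≫ i ≫ h = i' ≫ N.ι ≫ h := by rw [← Category.assoc, ← Category.assoc, morphismRestrict_ι]
  rw [e]
  haveI := hNh
  refine IsLocImmersion.comp (IsLocImmersion.of_comp_openImmersion N.ι ?_) (isLocImmersion_of_isOpenImmersion _)
  rw [morphismRestrict_ι]
  exact IsLocImmersion.comp (isLocImmersion_of_isOpenImmersion _) hi

/-- Base change of localizing immersions. -/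
theorem isLocImmersion_snd [NoetherianSpace X] {Y' : Scheme.{u}} (f : X ⟶ Y) (g : Y' ⟶ Y)
    (hf : LocImm.IsLocImmersion f) : LocImm.IsLocImmersion (pullback.snd f g) := by
  haveI := IsLocImmersion.isPreimmersion hf
  refine ⟨isLocalizing_of_cover fun t => ?_, (pullback.snd f g).isEmbedding.injective⟩
  have ht : g (pullback.snd f g t) = f (pullback.fst f g t) := by
    rw [← Scheme.Hom.comp_apply, ← Scheme.Hom.comp_apply, pullback.condition]
  obtain ⟨V, hxV, -, hV, hfV, hloc⟩ := IsLocImmersion.exists_chart hf (pullback.fst f g t) (N := (⊤ : Y.Opens)) trivial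
  obtain ⟨V', hV', htV', hle⟩ := exists_isAffineOpen_mem_and_subset (x := pullback.snd f g t) (U := g ⁻¹ᵁ V)
    (show g (pullback.snd f g t) ∈ V from ht ▸ hxV)
  let A := Γ(Y, V)
  letI : Algebra A Γ(X, f ⁻¹ᵁ V) := (f.app V).hom.toAlgebra
  letI : Algebra A Γ(Y', V') := (g.appLE V V' hle).hom.toAlgebra
  have e₁ : Spec.map (f.app V) ≫ hV.fromSpec = hfV.fromSpec ≫ f := by
    rw [Scheme.Hom.app_eq_appLE]; exact hV.SpecMap_appLE_fromSpec f hfV le_rfl
  have e₂ := hV.SpecMap_appLE_fromSpec g hV' hle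
  let μ := pullback.map (Spec.map (CommRingCat.ofHom (algebraMap A Γ(X, f ⁻¹ᵁ V))))
    (Spec.map (CommRingCat.ofHom (algebraMap A Γ(Y', V')))) f g hfV.fromSpec hV'.fromSpec hV.fromSpec e₁ e₂
  let j := (pullbackSpecIso A Γ(X, f ⁻¹ᵁ V) Γ(Y', V')).inv ≫ μ
  have hj : IsOpenImmersion j := inferInstance
  refine ⟨_, j, hj, ?_, ?_⟩
  · obtain ⟨q, hq⟩ : t ∈ Set.range μ := by
      rw [Scheme.Pullback.range_map]
      exact ⟨hfV.range_fromSpec.ge hxV, hV'.range_fromSpec.ge htV'⟩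
    exact ⟨(pullbackSpecIso A Γ(X, f ⁻¹ᵁ V) Γ(Y', V')).hom q, by
      rw [← Scheme.Hom.comp_apply, Iso.hom_inv_id_assoc]; exact hq⟩
  · have e₃ : j ≫ pullback.snd f g =
        Spec.map (CommRingCat.ofHom (Algebra.TensorProduct.includeRight (R := A) (A := Γ(X, f ⁻¹ᵁ V)) (B := Γ(Y', V'))).toRingHom) ≫
          hV'.fromSpec := by
      simp only [j, μ, Category.assoc, pullback.lift_snd]
      rw [← Category.assoc, pullbackSpecIso_inv_snd]
      rfl
    rw [e₃]
    refine IsLocalizing.comp (isLocImmersion_SpecMap _ ?_).1 (isLocalizing_of_isOpenImmersion _)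
    obtain ⟨M, hM⟩ := hloc
    letI := Algebra.TensorProduct.rightAlgebra (R := A) (A := Γ(X, f ⁻¹ᵁ V)) (B := Γ(Y', V'))
    exact isLocHom_algebraMap (A := Γ(Y', V')) (B := Γ(X, f ⁻¹ᵁ V) ⊗[A] Γ(Y', V'))
      (Algebra.algebraMapSubmonoid Γ(Y', V') M)

/-- Ideal sheaves extend along localizing immersions. -/
theorem exists_comap_eq [IsNoetherian X] (f : X ⟶ Y) (hf : LocImm.IsLocImmersion f) (I : X.IdealSheafData) :
    ∃ J : Y.IdealSheafData, J.comap f = I := by
  refine ⟨(I.subschemeι ≫ f).ker, le_antisymm ?_ ?_⟩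
  · rw [← Scheme.IdealSheafData.le_map_iff_comap_le, ← Scheme.IdealSheafData.map_ker,
      Scheme.IdealSheafData.ker_subschemeι]
  · choose V hxV _ hV hfV hloc using fun x : X => IsLocImmersion.exists_chart hf x (N := (⊤ : Y.Opens)) trivial
    refine Scheme.IdealSheafData.le_of_iSup_eq_top (fun x => (⟨f ⁻¹ᵁ V x, hfV x⟩ : X.affineOpens))
      (top_le_iff.1 fun x _ => Opens.mem_iSup.2 ⟨x, hxV x⟩) fun x => ?_
    intro b hb
    rw [ModPairLib.ideal_comap _ f ⟨V x, hV x⟩ ⟨f ⁻¹ᵁ V x, hfV x⟩ le_rfl, Scheme.Hom.appLE_eq_app]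
    obtain ⟨a, s, hs, hbs⟩ := ((isLocHom_iff _).1 (hloc x)).1 b
    have ha : a ∈ ((I.subschemeι ≫ f).ker).ideal ⟨V x, hV x⟩ := by
      haveI : CompactSpace I.subscheme := QuasiCompact.compactSpace_of_compactSpace I.subschemeι
      haveI : IsLocallyNoetherian I.subscheme := LocallyOfFiniteType.isLocallyNoetherian I.subschemeι
      haveI : IsNoetherian I.subscheme := { }
      rw [Scheme.Hom.ker_apply, RingHom.mem_ker, Scheme.Hom.comp_app, CommRingCat.comp_apply]
      have h1 : (f.app (V x)).hom a ∈ I.ideal ⟨f ⁻¹ᵁ V x, hfV x⟩ := hbs ▸ Ideal.mul_mem_right _ _ hb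
      rw [← I.ker_subschemeι, Scheme.Hom.ker_apply, RingHom.mem_ker] at h1
      exact h1
    have h2 : b = (f.app (V x)).hom a * ↑hs.unit⁻¹ := by
      rw [← hbs, mul_assoc, IsUnit.mul_val_inv, mul_one]
    rw [h2]
    exact Ideal.mul_mem_right _ _ (Ideal.mem_map_of_mem _ ha)

/-- A localizing morphism is injective if it is separated and injective on maximal points. -/
theorem injective_of_isSeparated_of_injOn {f : X ⟶ Y} (hf : LocImm.IsLocalizing f) [IsSeparated f]
    (hinj : Set.InjOn (fun x => f x) {x : X | ∀ x' : X, x' ⤳ x → x' = x}) :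
    Function.Injective (fun x => f x) := by
  intro x₁ x₂ (h : f x₁ = f x₂)
  haveI := isIso_stalkMap hf
  obtain ⟨η, hη, hη₁⟩ : ∃ η : X, (∀ x' : X, x' ⤳ η → x' = η) ∧ η ⤳ x₁ := by
    let c : irreducibleComponents (X : Type u) := ⟨_, irreducibleComponent_mem_irreducibleComponents x₁⟩
    refine ⟨(genericPoints.ofComponent c).1,
      fun x' hx' => AffineNhd.eq_of_closure_mem_irreducibleComponents (genericPoints.ofComponent c).2 hx', ?_⟩
    rw [specializes_iff_mem_closure, (genericPoints.isGenericPoint_ofComponent c).def]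
    exact mem_irreducibleComponent
  obtain ⟨η', hη'₂, he⟩ := AffineNhd.exists_preimage f (t := x₂) (y := f η)
    (by rw [← h]; exact hη₁.map f.continuous)
  have hη' : ∀ x' : X, x' ⤳ η' → x' = η' := by
    intro x' hx'
    obtain ⟨x'', hx'', e⟩ := AffineNhd.exists_preimage f (t := η) (y := f x') (by rw [← he]; exact hx'.map f.continuous)
    obtain rfl := hη _ hx''
    exact AffineNhd.eq_of_specializes f (hx'.trans hη'₂) hη'₂ (e.symm.trans he.symm)
  obtain rfl : η' = η := hinj hη' hη he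
  obtain ⟨ψ₁, hψ₁, hc₁⟩ := AffineNhd.exists_lift f (t := x₁) (y := f x₁) specializes_rfl
  obtain ⟨ψ₂, hψ₂, hc₂⟩ := AffineNhd.exists_lift f (t := x₂) (y := f x₁) (specializes_of_eq h)
  have hψ₁c : ψ₁ (IsLocalRing.closedPoint _) = x₁ := AffineNhd.eq_of_specializes f hc₁ specializes_rfl (by
    show (ψ₁ ≫ f) _ = _
    rw [hψ₁, Scheme.fromSpecStalk_closedPoint])
  have hψ₂c : ψ₂ (IsLocalRing.closedPoint _) = x₂ := AffineNhd.eq_of_specializes f hc₂ specializes_rfl (by
    show (ψ₂ ≫ f) _ = _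
    rw [hψ₂, Scheme.fromSpecStalk_closedPoint, h])
  obtain ⟨w, hw⟩ : f η' ∈ Set.range (Y.fromSpecStalk (f x₁)) := by
    rw [Scheme.range_fromSpecStalk]; exact hη₁.map f.continuous
  let R := Spec (Y.presheaf.stalk (f x₁))
  have hwc : w ⤳ IsLocalRing.closedPoint _ := IsLocalRing.specializes_closedPoint w
  have h1 : ψ₁ w = η' := AffineNhd.eq_of_specializes f (t := x₁) ((hwc.map ψ₁.continuous).trans (specializes_of_eq hψ₁c)) hη₁
    (by show (ψ₁ ≫ f) w = _; rw [hψ₁, hw])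
  have h2 : ψ₂ w = η' := AffineNhd.eq_of_specializes f (t := x₂) ((hwc.map ψ₂.continuous).trans (specializes_of_eq hψ₂c)) hη'₂
    (by show (ψ₂ ≫ f) w = _; rw [hψ₂, hw])
  let δ := pullback.lift ψ₁ ψ₂ (hψ₁.trans hψ₂.symm)
  let κ := R.fromSpecResidueField w
  have hκ : κ (IsLocalRing.closedPoint _) = w := R.fromSpecResidueField_apply w _
  have heq : κ ≫ ψ₁ = κ ≫ ψ₂ := by
    refine AffineNhd.hom_ext f _ _ (t := η') ?_ ?_ ?_
    · rw [Scheme.Hom.comp_apply, hκ, h1]
    · rw [Scheme.Hom.comp_apply, hκ, h2]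
    · rw [Category.assoc, Category.assoc, hψ₁, hψ₂]
  have hδw : δ w ∈ Set.range (pullback.diagonal f) := by
    refine ⟨(κ ≫ ψ₁) (IsLocalRing.closedPoint _), ?_⟩
    have e : (κ ≫ ψ₁) ≫ pullback.diagonal f = κ ≫ δ := by
      ext
      · rw [Category.assoc, pullback.diagonal_fst, Category.comp_id, Category.assoc, pullback.lift_fst]
      · rw [Category.assoc, pullback.diagonal_snd, Category.comp_id, Category.assoc, pullback.lift_snd, heq]
    rw [← Scheme.Hom.comp_apply, e, Scheme.Hom.comp_apply, hκ]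
  obtain ⟨z, hz⟩ := (hwc.map δ.continuous).mem_closed (pullback.diagonal f).isClosedEmbedding.isClosed_range hδw
  have f1 : z = x₁ := by
    rw [← hψ₁c, ← pullback.lift_fst ψ₁ ψ₂ (hψ₁.trans hψ₂.symm), Scheme.Hom.comp_apply, ← hz,
      ← Scheme.Hom.comp_apply, pullback.diagonal_fst]
    rfl
  have f2 : z = x₂ := by
    rw [← hψ₂c, ← pullback.lift_snd ψ₁ ψ₂ (hψ₁.trans hψ₂.symm), Scheme.Hom.comp_apply, ← hz,
      ← Scheme.Hom.comp_apply, pullback.diagonal_snd]
    rfl
  exact f1.symm.trans f2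

section Localizable

variable (P : MorphismProperty Scheme.{u})
    (hα : ∀ {W X Y : Scheme.{u}} [IsNoetherian W] [IsNoetherian X] [IsNoetherian Y] (i : W ⟶ X) (f : X ⟶ Y)
      [IsSeparated f] [EssFT.EssFiniteType f], LocImm.IsLocImmersion i → P f → P (i ≫ f))
    (hβ₁ : ∀ {X Y : Scheme.{u}} [IsNoetherian X] [IsNoetherian Y] (f : X ⟶ Y) [IsSeparated f]
      [LocallyOfFiniteType f], (∀ x : X, P (X.fromSpecStalk x ≫ f)) → P f)
    (hβ₂ : ∀ {X Y : Scheme.{u}} [IsNoetherian X] [IsNoetherian Y] (f : X ⟶ Y) [IsSeparated f]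
      [LocallyOfFiniteType f], IsOpen {x : X | P (X.fromSpecStalk x ≫ f)})

include hα in
theorem stalk_iff [IsNoetherian W] [IsNoetherian Y] [IsNoetherian S] (k : W ⟶ Y) (p : Y ⟶ S) [IsSeparated p]
    [LocallyOfFiniteType p] (w : W) (hiso : IsIso (k.stalkMap w)) :
    P (W.fromSpecStalk w ≫ k ≫ p) ↔ P (Y.fromSpecStalk (k w) ≫ p) := by
  haveI := isNoetherian_stalk w
  haveI := isNoetherian_stalk (k w)
  haveI : EssFT.EssFiniteType (Y.fromSpecStalk (k w) ≫ p) := essFiniteType_comp (isLocImmersion_fromSpecStalk _).1 p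
  rw [← Category.assoc, ← Scheme.SpecMap_stalkMap_fromSpecStalk, Category.assoc]
  refine ⟨fun h => ?_, fun h => hα _ _ (isLocImmersion_of_isOpenImmersion _) h⟩
  haveI : EssFT.EssFiniteType (Spec.map (k.stalkMap w) ≫ Y.fromSpecStalk (k w) ≫ p) := by
    rw [← Category.assoc]
    exact essFiniteType_comp (IsLocalizing.comp (isLocalizing_of_isOpenImmersion _) (isLocImmersion_fromSpecStalk _).1) p
  have := hα (Spec.map (inv (k.stalkMap w))) _ (isLocImmersion_of_isOpenImmersion _) h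
  rwa [← Spec.map_comp_assoc, IsIso.hom_inv_id, Spec.map_id, Category.id_comp] at this

include hα hβ₁ hβ₂ in
theorem localizable [IsNoetherian X] [IsNoetherian S] (f : X ⟶ S) [IsSeparated f] [EssFT.EssFiniteType f] :
    ((∀ x : X, P (X.fromSpecStalk x ≫ f)) → P f) ∧ IsOpen {x : X | P (X.fromSpecStalk x ≫ f)} ∧
      (P f → ∃ (Z : Scheme.{u}) (i : X ⟶ Z) (h : Z ⟶ S), IsNoetherian Z ∧ LocImm.IsLocImmersion i ∧
        IsSeparated h ∧ LocallyOfFiniteType h ∧ QuasiCompact h ∧ P h ∧ i ≫ h = f) := by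
  obtain ⟨Y, k, p, hY, hk, hp, hlp, hqp, rfl⟩ := exists_factor f
  haveI := hY
  haveI := hp
  haveI := hlp
  haveI := hqp
  let L : Y.Opens := ⟨{y : Y | P (Y.fromSpecStalk y ≫ p)}, hβ₂ p⟩
  have hiff : ∀ x, P (X.fromSpecStalk x ≫ k ≫ p) ↔ k x ∈ L := fun x =>
    stalk_iff P hα k p x (isIso_stalkMap hk.1 x)
  haveI := isNoetherian_opens L
  haveI : EssFT.EssFiniteType (L.ι ≫ p) := essFiniteType_of_finiteType _
  have hPL : P (L.ι ≫ p) := hβ₁ _ fun z => (stalk_iff P hα L.ι p z inferInstance).2 z.2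
  have key : (∀ x, k x ∈ L) → ∃ k' : X ⟶ L, LocImm.IsLocImmersion k' ∧ k' ≫ L.ι = k := fun hall => by
    refine ⟨IsOpenImmersion.lift L.ι k ?_, ?_, IsOpenImmersion.lift_fac _ _ _⟩
    · rw [Scheme.Opens.range_ι]; rintro _ ⟨x, rfl⟩; exact hall x
    · refine IsLocImmersion.of_comp_openImmersion L.ι ?_
      rw [IsOpenImmersion.lift_fac]; exact hk
  refine ⟨fun hall => ?_, ?_, fun hPf => ?_⟩
  · obtain ⟨k', hk', e⟩ := key fun x => (hiff x).1 (hall x)
    rw [← e, Category.assoc]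
    exact hα k' _ hk' hPL
  · convert L.2.preimage k.continuous using 1
    ext x
    exact hiff x
  · obtain ⟨k', hk', e⟩ := key fun x => (hiff x).1 (by
      haveI := isNoetherian_stalk x
      exact hα _ _ (isLocImmersion_fromSpecStalk x) hPf)
    exact ⟨L, k', L.ι ≫ p, inferInstance, hk', inferInstance, inferInstance, inferInstance, hPL,
      by rw [← Category.assoc, e]⟩

end Localizable

theorem flat_stalkMap_of_flat (f : X ⟶ Y) (x : X) (h : Flat (X.fromSpecStalk x ≫ f)) : (f.stalkMap x).hom.Flat := by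
  have h1 := Flat.stalkMap (X.fromSpecStalk x ≫ f) (IsLocalRing.closedPoint (X.presheaf.stalk x))
  rw [Scheme.Hom.stalkMap_comp] at h1
  haveI := isIso_stalkMap (isLocImmersion_fromSpecStalk x).1 (IsLocalRing.closedPoint (X.presheaf.stalk x))
  rw [FlatLocus.flat_comp_isIso] at h1
  suffices ∀ z, z = x → (f.stalkMap z).hom.Flat → (f.stalkMap x).hom.Flat from
    this _ Scheme.fromSpecStalk_closedPoint h1
  rintro z rfl hz
  exact hz

theorem flat_iff_stalk (f : X ⟶ Y) (x : X) : Flat (X.fromSpecStalk x ≫ f) ↔ (f.stalkMap x).hom.Flat := by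
  refine ⟨flat_stalkMap_of_flat f x, fun h => ?_⟩
  rw [← Scheme.SpecMap_stalkMap_fromSpecStalk]
  haveI : Flat (Spec.map (f.stalkMap x)) := (HasRingHomProperty.Spec_iff (P := @Flat)).2 h
  haveI : Flat (Y.fromSpecStalk (f x)) := Flat.of_stalkMap _ fun z =>
    haveI := isIso_stalkMap (isLocImmersion_fromSpecStalk (f x)).1 z
    RingHom.Flat.of_bijective (ConcreteCategory.bijective_of_isIso _)
  infer_instance

theorem flat_of_isLocImmersion {i : X ⟶ Y} (hi : LocImm.IsLocImmersion i) : Flat i :=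
  Flat.of_stalkMap _ fun z =>
    haveI := isIso_stalkMap hi.1 z
    RingHom.Flat.of_bijective (ConcreteCategory.bijective_of_isIso _)

/-- An essentially quasi-finite separated morphism is a localizing immersion followed by a finite morphism. -/
theorem exists_factor_finite [IsNoetherian X] [IsNoetherian S] (f : X ⟶ S) [IsSeparated f]
    [EssFT.EssFiniteType f] [LocallyQuasiFinite f] :
    ∃ (Z : Scheme.{u}) (i : X ⟶ Z) (h : Z ⟶ S), IsNoetherian Z ∧ LocImm.IsLocImmersion i ∧ IsFinite h ∧ i ≫ h = f := by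
  obtain ⟨Y, k, p, hY, hk, hp, hlp, hqp, rfl⟩ := exists_factor f
  haveI := hY
  haveI := hp
  haveI := hlp
  haveI := hqp
  have hall : ∀ x, k x ∈ p.quasiFiniteLocus := fun x => by
    have h1 : ((k ≫ p).stalkMap x).hom.QuasiFinite := (k ≫ p).quasiFiniteAt x
    rw [Scheme.Hom.stalkMap_comp, CommRingCat.hom_comp] at h1
    haveI := isIso_stalkMap hk.1 x
    rwa [RingHom.QuasiFinite.respectsIso.cancel_right_isIso] at h1
  let L := p.quasiFiniteLocus
  haveI := isNoetherian_opens L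
  haveI : LocallyQuasiFinite (L.ι ≫ p) := inferInstance
  obtain ⟨T, j, π, hj, -, hπ, hfac⟩ := AlgGlue.exists_finite_factor (L.ι ≫ p)
  haveI := hπ
  haveI : IsNoetherian T := isNoetherian_of_finiteType π
  let k' : X ⟶ L := IsOpenImmersion.lift L.ι k (by rw [Scheme.Opens.range_ι]; rintro _ ⟨x, rfl⟩; exact hall x)
  have e : k' ≫ L.ι = k := IsOpenImmersion.lift_fac _ _ _
  haveI := hj
  exact ⟨T, k' ≫ j, π, inferInstance,
    IsLocImmersion.comp (IsLocImmersion.of_comp_openImmersion L.ι (e.symm ▸ hk)) (isLocImmersion_of_isOpenImmersion j),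
    hπ, by rw [Category.assoc, hfac, ← Category.assoc, e]⟩

end Groth.Agent.LocImmLib
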