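import Groth.Agent.LocImmLib.More
import Groth.Agent.NagataLib.General
import Groth.Agent.ZRLim.Birational
import Groth.Agent.ZRLim.Extend
import Groth.Agent.BlowUpLib.Glue
import Groth.Agent.S1694

/-!
# Localizing immersions, admissible blow-ups and proper modifications
-/

universe u

set_option autoImplicit false
set_option linter.style.haveILetI false
set_option backward.isDefEq.respectTransparency false
set_option backward.isDefEq.respectTransparency.types false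

open CategoryTheory CategoryTheory.Limits AlgebraicGeometry TopologicalSpace

namespace Groth.Agent.LocImmLib

variable {U X Y Z S : Scheme.{u}}

/-- `b` is a blow-up in an ideal whose zero locus misses the image of `k`. -/
def AdmBU (b : X ⟶ Y) (k : U ⟶ Y) : Prop :=
  ∃ I : Y.IdealSheafData, BlowUp.IsBlowUp b I ∧
    Disjoint (I.support : Set Y) (Set.range (fun u => k u))

theorem isIso_of_surjective (q : X ⟶ Y) [IsOpenImmersion q] [Surjective q] : IsIso q :=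
  isIso_iff_isOpenImmersion_and_epi_base q |>.2 ⟨inferInstance,
    (TopCat.epi_iff_surjective _).2 q.surjective⟩

theorem isFiniteType_ideal [IsLocallyNoetherian Y] (I : Y.IdealSheafData) :
    BlowUp.IsFiniteTypeIdeal I := fun V => by
  haveI := IsLocallyNoetherian.component_noetherian (X := Y) V
  exact IsNoetherian.noetherian _

theorem AdmBU.isProper [IsLocallyNoetherian Y] {b : X ⟶ Y} {k : U ⟶ Y} (h : AdmBU b k) :
    IsProper b := by
  obtain ⟨I, hb, -⟩ := h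
  exact BlowUpLib.isProper_of_isBlowUp _ hb (isFiniteType_ideal I)

theorem AdmBU.isNoetherian [IsNoetherian Y] {b : X ⟶ Y} {k : U ⟶ Y} (h : AdmBU b k) :
    IsNoetherian X := by
  haveI := h.isProper
  exact isNoetherian_of_finiteType b

/-- A localizing immersion missing the centre lifts to the blow-up. -/
theorem AdmBU.exists_lift {b : X ⟶ Y} {k : U ⟶ Y} (h : AdmBU b k) (hk : LocImm.IsLocImmersion k) :
    ∃ k' : U ⟶ X, k' ≫ b = k ∧ LocImm.IsLocImmersion k' := by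
  obtain ⟨I, hb, hd⟩ := h
  let V : Y.Opens := ⟨(I.support : Set Y)ᶜ, I.support.isClosed.isOpen_compl⟩
  haveI : IsIso (b ∣_ V) := BlowUpLib.isIso_restrict hb V (fun z hz => hz)
  let k₀ : U ⟶ (V : Scheme.{u}) := IsOpenImmersion.lift V.ι k (by
    rw [Scheme.Opens.range_ι]
    rintro _ ⟨u, rfl⟩
    exact fun hu => Set.disjoint_left.1 hd hu ⟨u, rfl⟩)
  have hk₀ : k₀ ≫ V.ι = k := IsOpenImmersion.lift_fac _ _ _
  refine ⟨k₀ ≫ inv (b ∣_ V) ≫ (b ⁻¹ᵁ V).ι, ?_, ?_⟩
  · rw [Category.assoc, Category.assoc, ← morphismRestrict_ι, IsIso.inv_hom_id_assoc, hk₀]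
  · exact IsLocImmersion.comp (IsLocImmersion.of_comp_openImmersion V.ι (hk₀.symm ▸ hk))
      (isLocImmersion_of_isOpenImmersion _)

theorem admBU_id (k : U ⟶ Y) : AdmBU (𝟙 Y) k :=
  ⟨⊤, BlowUpLib.isBlowUp_id_top Y, by simp⟩

/-- Composites of admissible blow-ups are admissible blow-ups. -/
theorem AdmBU.comp [IsNoetherian Y] {W : Scheme.{u}} {b : X ⟶ Y} {b' : W ⟶ X} {k : U ⟶ Y}
    {k' : U ⟶ X} (h : AdmBU b k) (hk' : k' ≫ b = k) (h' : AdmBU b' k') : AdmBU (b' ≫ b) k := by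
  haveI := h.isNoetherian
  obtain ⟨I, hb, hd⟩ := h
  obtain ⟨J, hb', hd'⟩ := h'
  obtain ⟨K, -, hK, hKb⟩ := Groth.Agent.S1694.result Y I (isFiniteType_ideal I) b hb J
    (isFiniteType_ideal J) b' hb'
  refine ⟨K, hKb, ?_⟩
  rw [hK, Set.disjoint_left]
  rintro z (hz | ⟨x, hx, rfl⟩) ⟨u, hu⟩
  · exact Set.disjoint_left.1 hd hz ⟨u, hu⟩
  · let V : Y.Opens := ⟨(I.support : Set Y)ᶜ, I.support.isClosed.isOpen_compl⟩
    haveI : IsIso (b ∣_ V) := BlowUpLib.isIso_restrict hb V (fun z hz => hz)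
    have hu' : b x = b (k' u) := by rw [← Scheme.Hom.comp_apply, hk']; exact hu.symm
    have hxV : b x ∈ V := fun hm => Set.disjoint_left.1 hd hm ⟨u, hu⟩
    have hkV : b (k' u) ∈ V := hu' ▸ hxV
    have e : ∀ y : (b ⁻¹ᵁ V).toScheme, ((b ∣_ V) y).1 = b y.1 := fun y =>
      congrArg (fun φ => φ y) (morphismRestrict_ι b V)
    have h1 : (b ∣_ V) (⟨x, hxV⟩ : (b ⁻¹ᵁ V).toScheme) =
        (b ∣_ V) (⟨k' u, hkV⟩ : (b ⁻¹ᵁ V).toScheme) :=
      Subtype.ext ((e ⟨x, hxV⟩).trans (hu'.trans (e ⟨k' u, hkV⟩).symm))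
    have h2 := congrArg Subtype.val ((b ∣_ V).homeomorph.injective h1)
    exact Set.disjoint_left.1 hd' hx ⟨u, h2.symm⟩

/-- Admissible blow-ups pull back along localizing immersions. -/
theorem AdmBU.pullback_fst [NoetherianSpace Y] {T Y' : Scheme.{u}} [IsNoetherian Y] [IsNoetherian Y']
    {b : T ⟶ Y'} {k : U ⟶ Y} {i : Y ⟶ Y'} (hi : LocImm.IsLocImmersion i) (h : AdmBU b (k ≫ i)) :
    AdmBU (pullback.fst i b) k := by
  obtain ⟨I, hb, hd⟩ := h
  haveI := flat_of_isLocImmersion hi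
  refine ⟨I.comap i, BlowUpLib.isBlowUp_of_isPullback (IsPullback.of_hasPullback i b) hb, ?_⟩
  rw [Scheme.IdealSheafData.support_comap, Set.disjoint_left]
  rintro y hy ⟨u, rfl⟩
  exact Set.disjoint_left.1 hd hy ⟨u, Scheme.Hom.comp_apply _ _ _⟩

/-- A separated morphism is an isomorphism over the image of a dense open which it maps
isomorphically. -/
theorem isIso_restrict_of_dense {A B : Scheme.{u}} (g : A ⟶ B) [IsSeparated g] (V : A.Opens)
    [IsOpenImmersion (V.ι ≫ g)] (hV : Dense (V : Set A)) : IsIso (g ∣_ (V.ι ≫ g).opensRange) := by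
  let O := (V.ι ≫ g).opensRange
  have hle : V ≤ g ⁻¹ᵁ O := fun a ha => ⟨⟨a, ha⟩, Scheme.Hom.comp_apply _ _ _⟩
  let c := A.homOfLE hle
  have hc : c ≫ (g ∣_ O) = (V.ι ≫ g).isoOpensRange.hom := by
    rw [← cancel_mono O.ι, Category.assoc, morphismRestrict_ι, Scheme.homOfLE_ι_assoc,
      Scheme.Hom.isoOpensRange_hom_ι]
  haveI : IsClosedImmersion c := by
    haveI : IsClosedImmersion (c ≫ (g ∣_ O)) := by rw [hc]; infer_instance
    exact IsClosedImmersion.of_comp c (g ∣_ O)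
  haveI : Surjective c := ⟨fun w => by
    have hd : DenseRange c := by
      rw [DenseRange, dense_iff_inter_open]
      rintro _ hW ⟨w₀, hw₀⟩
      obtain ⟨a, ha, haV⟩ := dense_iff_inter_open.1 hV _ ((g ⁻¹ᵁ O).ι.isOpenEmbedding.isOpenMap _ hW)
        ⟨_, w₀, hw₀, rfl⟩
      obtain ⟨w₁, hw₁, rfl⟩ := ha
      refine ⟨w₁, hw₁, ⟨w₁.1, haV⟩, (g ⁻¹ᵁ O).ι.isOpenEmbedding.injective ?_⟩
      rw [← Scheme.Hom.comp_apply, Scheme.homOfLE_ι]
      rfl
    exact (c.isClosedMap.isClosed_range.closure_eq.symm.trans hd.closure_eq).ge (Set.mem_univ w)⟩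
  haveI : IsIso c := isIso_of_surjective c
  have : g ∣_ O = inv c ≫ (V.ι ≫ g).isoOpensRange.hom := by rw [← hc, IsIso.inv_hom_id_assoc]
  rw [this]
  infer_instance

/-- A proper morphism which is a localizing immersion near the image of `f` becomes an isomorphism
after admissible blow-ups of source and target. -/
theorem exists_adm_iso [IsNoetherian U] [IsNoetherian Y] [IsNoetherian Z] (f : U ⟶ Y) (g : Y ⟶ Z)
    [IsProper g] (hf : LocImm.IsLocImmersion f) (hfg : LocImm.IsLocImmersion (f ≫ g)) :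
    ∃ (T : Scheme.{u}) (b : T ⟶ Y) (c : T ⟶ Z), AdmBU b f ∧ AdmBU c (f ≫ g) ∧ c = b ≫ g := by
  haveI := essFiniteType_of_finiteType g
  obtain ⟨V₀, hV₀, hV₀g⟩ := exists_open_restrict_isLocImmersion f g hf hfg
  haveI : IsNoetherian (V₀ : Scheme.{u}) := isNoetherian_opens V₀
  haveI : LocallyOfFiniteType (V₀.ι ≫ g) := inferInstance
  haveI : IsOpenImmersion (V₀.ι ≫ g) := IsLocImmersion.isOpenImmersion hV₀g
  haveI : Nonempty (ZRLim.Adm V₀) := ZRLim.Adm.nonempty (NoetherianSpace.isCompact _)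
  let K₀ : ZRLim.Adm V₀ := Classical.arbitrary _
  have hK₀ : AdmBU K₀.π f := ⟨K₀.1, K₀.isBlowUp, K₀.isAdmissible.2.mono_right hV₀⟩
  haveI : IsNoetherian K₀.obj := isNoetherian_of_finiteType K₀.π
  obtain ⟨f₁, hf₁, hf₁i⟩ := hK₀.exists_lift hf
  let V₁ : K₀.obj.Opens := K₀.π ⁻¹ᵁ V₀
  have hV₁ : V₁.ι ≫ K₀.π ≫ g = (K₀.π ∣_ V₀) ≫ V₀.ι ≫ g := by rw [morphismRestrict_ι_assoc]
  haveI : IsOpenImmersion (V₁.ι ≫ K₀.π ≫ g) := by rw [hV₁]; infer_instance
  haveI : QuasiCompact V₁.ι := inferInstance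
  have hd : Dense (V₁ : Set K₀.obj) := by
    have h : DenseRange V₁.ι := IsDominant.denseRange
    rwa [DenseRange, Scheme.Opens.range_ι] at h
  haveI := isIso_restrict_of_dense (K₀.π ≫ g) V₁ hd
  let O := (V₁.ι ≫ K₀.π ≫ g).opensRange
  have hO : IsCompact (O : Set Z) := NoetherianSpace.isCompact _
  haveI : Nonempty (ZRLim.Adm O) := ZRLim.Adm.nonempty hO
  obtain ⟨K, hK⟩ := ZRLim.Bir.exists_isOpenImmersion (K₀.π ≫ g) hO
  haveI := hK
  haveI : IsProper (ZRLim.Bir.q (K₀.π ≫ g) K ≫ K.π) := by rw [ZRLim.Bir.q_π]; infer_instance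
  haveI : IsProper (ZRLim.Bir.q (K₀.π ≫ g) K) := IsProper.of_comp _ K.π
  haveI : Surjective (ZRLim.Bir.q (K₀.π ≫ g) K) := ⟨fun w => by
    have h1 : Dense ((K.π ⁻¹ᵁ O : K.obj.Opens) : Set K.obj) := by
      have h : DenseRange (K.π ⁻¹ᵁ O).ι := IsDominant.denseRange
      rwa [DenseRange, Scheme.Opens.range_ι] at h
    exact closure_minimal (fun w hw => ZRLim.Bir.preimage_le_range K w hw)
      (ZRLim.Bir.q (K₀.π ≫ g) K).isClosedMap.isClosed_range (h1 w)⟩
  haveI : IsIso (ZRLim.Bir.q (K₀.π ≫ g) K) := isIso_of_surjective _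
  have hfO : ∀ u, (f ≫ g) u ∈ O := fun u => ⟨⟨f₁ u, by
      show K₀.π (f₁ u) ∈ V₀
      rw [← Scheme.Hom.comp_apply, hf₁]; exact hV₀ (Set.mem_range_self u)⟩, by
    show (K₀.π ≫ g) (f₁ u) = (f ≫ g) u
    rw [← Scheme.Hom.comp_apply, reassoc_of% hf₁]⟩
  refine ⟨_, (ZRLim.Bir.pull (K₀.π ≫ g) K).π ≫ K₀.π, (ZRLim.Bir.pull (K₀.π ≫ g) K).π ≫ K₀.π ≫ g,
    hK₀.comp hf₁ ⟨_, (ZRLim.Bir.pull (K₀.π ≫ g) K).isBlowUp, ?_⟩, ⟨K.1, ?_, ?_⟩,
    (Category.assoc _ _ _).symm⟩
  · refine (ZRLim.Bir.pull (K₀.π ≫ g) K).isAdmissible.2.mono_right ?_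
    rintro _ ⟨u, rfl⟩
    show (K₀.π ≫ g) (f₁ u) ∈ O
    rw [← Scheme.Hom.comp_apply, reassoc_of% hf₁]; exact hfO u
  · rw [← ZRLim.Bir.q_π]
    exact BlowUpLib.isBlowUp_iso_comp _ K.isBlowUp
  · refine K.isAdmissible.2.mono_right ?_
    rintro _ ⟨u, rfl⟩
    exact hfO u

/-- A separated morphism essentially of finite type is a schematically dense localizing immersion
followed by a proper morphism. -/
theorem exists_factor_proper [IsNoetherian X] [IsNoetherian S] (f : X ⟶ S) [IsSeparated f]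
    [EssFT.EssFiniteType f] :
    ∃ (Y : Scheme.{u}) (k : X ⟶ Y) (p : Y ⟶ S), IsNoetherian Y ∧ LocImm.IsLocImmersion k ∧
      DenseRange k ∧ IsProper p ∧ k ≫ p = f := by
  obtain ⟨P, i, h, hP, hi, _, hlf, hqc, rfl⟩ := exists_factor f
  haveI := hP
  haveI := hlf
  haveI := hqc
  obtain ⟨Q, j, p, hj, -, hp, hjp⟩ := NagataLib.exists_compactification h
  haveI := hj
  haveI := hp
  haveI : IsNoetherian Q := isNoetherian_of_finiteType p
  have hij : LocImm.IsLocImmersion (i ≫ j) := IsLocImmersion.comp hi (isLocImmersion_of_isOpenImmersion j)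
  haveI : QuasiCompact (i ≫ j) := inferInstance
  refine ⟨(i ≫ j).image, (i ≫ j).toImage, (i ≫ j).imageι ≫ p, isNoetherian_of_finiteType (i ≫ j).imageι,
    IsLocImmersion.of_comp_app_injective _ (i ≫ j).imageι ?_ (app_injective_toImage _),
    IsDominant.denseRange, inferInstance, ?_⟩
  · rwa [Scheme.Hom.toImage_imageι]
  · rw [Scheme.Hom.toImage_imageι_assoc, Category.assoc, hjp]

/-- A morphism given on a localizing immersion extends to an open neighbourhood of the image. -/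
theorem exists_spread [IsNoetherian S] [IsNoetherian X] [IsNoetherian Y] [IsNoetherian Z]
    (a : X ⟶ S) (b : Y ⟶ S) [IsProper b] (j : Z ⟶ X) (hj : LocImm.IsLocImmersion j) (f : Z ⟶ Y)
    (h : j ≫ a = f ≫ b) :
    ∃ (V : X.Opens) (k : Z ⟶ (V : Scheme.{u})) (φ : (V : Scheme.{u}) ⟶ Y),
      k ≫ V.ι = j ∧ k ≫ φ = f ∧ φ ≫ b = V.ι ≫ a := by
  haveI : IsNoetherian (pullback a b) := isNoetherian_of_finiteType (pullback.fst a b)
  let l : Z ⟶ pullback a b := pullback.lift j f h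
  haveI : QuasiCompact l := inferInstance
  haveI : IsNoetherian l.image := isNoetherian_of_finiteType l.imageι
  let r : l.image ⟶ X := l.imageι ≫ pullback.fst a b
  have hr : l.toImage ≫ r = j := by simp [r, l]
  have ht : LocImm.IsLocImmersion l.toImage :=
    IsLocImmersion.of_comp_app_injective _ r (hr.symm ▸ hj) (app_injective_toImage _)
  haveI := essFiniteType_of_finiteType r
  obtain ⟨W, hW, hWr⟩ := exists_open_restrict_isLocImmersion l.toImage r ht (hr.symm ▸ hj)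
  haveI : IsNoetherian (W : Scheme.{u}) := isNoetherian_opens W
  haveI : IsOpenImmersion (W.ι ≫ r) := IsLocImmersion.isOpenImmersion hWr
  let k₀ : Z ⟶ (W : Scheme.{u}) := IsOpenImmersion.lift W.ι l.toImage (by rwa [Scheme.Opens.range_ι])
  have hk₀ : k₀ ≫ W.ι = l.toImage := IsOpenImmersion.lift_fac _ _ _
  refine ⟨(W.ι ≫ r).opensRange, k₀ ≫ (W.ι ≫ r).isoOpensRange.hom,
    (W.ι ≫ r).isoOpensRange.inv ≫ W.ι ≫ l.imageι ≫ pullback.snd a b, ?_, ?_, ?_⟩
  · rw [Category.assoc, Scheme.Hom.isoOpensRange_hom_ι, reassoc_of% hk₀, hr]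
  · rw [Category.assoc, Iso.hom_inv_id_assoc, reassoc_of% hk₀, Scheme.Hom.toImage_imageι_assoc]
    exact pullback.lift_snd _ _ _
  · calc _ = (W.ι ≫ r).isoOpensRange.inv ≫ (W.ι ≫ r) ≫ a := by
          simp only [r, Category.assoc, pullback.condition]
      _ = _ := (Category.assoc _ _ _).symm.trans
          (congrArg (· ≫ a) (Scheme.Hom.isoOpensRange_inv_comp (W.ι ≫ r)))

/-- A morphism into a proper scheme given on a localizing immersion extends after an admissible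
blow-up. -/
theorem exists_adm_extend [IsNoetherian S] [IsNoetherian X] [IsNoetherian Y] [IsNoetherian Z]
    (a : X ⟶ S) (b : Y ⟶ S) [IsProper b] (j : Z ⟶ X) (hj : LocImm.IsLocImmersion j) (f : Z ⟶ Y)
    (h : j ≫ a = f ≫ b) :
    ∃ (T : Scheme.{u}) (c : T ⟶ X) (e : Z ⟶ T) (f' : T ⟶ Y), AdmBU c j ∧
      LocImm.IsLocImmersion e ∧ e ≫ c = j ∧ e ≫ f' = f ∧ c ≫ a = f' ≫ b := by
  obtain ⟨V, k, φ, hk, hkφ, hφ⟩ := exists_spread a b j hj f h
  have hVc : IsCompact (V : Set X) := NoetherianSpace.isCompact _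
  haveI : Nonempty (ZRLim.Adm V) := ZRLim.Adm.nonempty hVc
  let s : (V : Scheme.{u}) ⟶ pullback a b := pullback.lift V.ι φ hφ.symm
  have hs : s ≫ pullback.fst a b ≫ X.topIso.inv = X.homOfLE (le_top : V ≤ ⊤) := by
    rw [← cancel_mono (⊤ : X.Opens).ι, Scheme.homOfLE_ι]
    simp [s, ← Scheme.topIso_hom]
  obtain ⟨K, g, hg⟩ := ZRLim.exists_extension (W := ⊤) (f := pullback.fst a b ≫ X.topIso.inv) (s := s)
    (NoetherianSpace.isCompact _) hs
  have hK : AdmBU K.π j := ⟨K.1, K.isBlowUp, K.isAdmissible.2.mono_right (by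
    rintro _ ⟨z, rfl⟩
    rw [← hk]
    exact (k z).2)⟩
  obtain ⟨e, he, hei⟩ := hK.exists_lift hj
  let t : K.obj ⟶ (K.π ⁻¹ᵁ (⊤ : X.Opens)).toScheme := K.obj.topIso.inv
  have ht : t ≫ (K.π ⁻¹ᵁ (⊤ : X.Opens)).ι = 𝟙 _ := K.obj.topIso.inv_hom_id
  have hgc : g ≫ pullback.fst a b = (K.π ⁻¹ᵁ (⊤ : X.Opens)).ι ≫ K.π := by
    have := hg.comp_eq
    simpa [← Scheme.topIso_hom] using this
  refine ⟨K.obj, K.π, e, t ≫ g ≫ pullback.snd a b, hK, hei, he, ?_, ?_⟩
  · have := hg.agree (e ≫ t) k (by rw [Category.assoc, reassoc_of% ht, he, hk])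
    rw [reassoc_of% this]
    simp [s, hkφ]
  · simp only [Category.assoc]
    rw [← pullback.condition, reassoc_of% hgc, reassoc_of% ht]

end Groth.Agent.LocImmLib
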