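import Groth.Agent.LocImmLib.Nagata

/-!
# A common target of several localizing immersions
-/

universe u

set_option autoImplicit false
set_option linter.style.haveILetI false
set_option backward.isDefEq.respectTransparency false
set_option backward.isDefEq.respectTransparency.types false

open CategoryTheory CategoryTheory.Limits AlgebraicGeometry TopologicalSpace

namespace Groth.Agent.LocImmLib

variable {U S : Scheme.{u}} [IsNoetherian U] [IsNoetherian S]

omit [AlgebraicGeometry.IsNoetherian S] in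
/-- Two proper schemes receiving a localizing immersion have a common admissible blow-up. -/
theorem exists_common {A B : Scheme.{u}} [IsNoetherian A] [IsNoetherian B] (rA : A ⟶ S) (rB : B ⟶ S)
    [IsProper rA] [IsProper rB] (kA : U ⟶ A) (kB : U ⟶ B) (hA : LocImm.IsLocImmersion kA)
    (hB : LocImm.IsLocImmersion kB) (h : kA ≫ rA = kB ≫ rB) :
    ∃ (T : Scheme.{u}) (k : U ⟶ T) (bA : T ⟶ A) (bB : T ⟶ B), IsNoetherian T ∧
      LocImm.IsLocImmersion k ∧ AdmBU bA kA ∧ AdmBU bB kB ∧ k ≫ bA = kA ∧ k ≫ bB = kB ∧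
      bA ≫ rA = bB ≫ rB := by
  haveI : IsNoetherian (pullback rA rB) := isNoetherian_of_finiteType (pullback.fst rA rB)
  let l : U ⟶ pullback rA rB := pullback.lift kA kB h
  haveI : QuasiCompact l := inferInstance
  haveI : IsNoetherian l.image := isNoetherian_of_finiteType l.imageι
  let pA : l.image ⟶ A := l.imageι ≫ pullback.fst rA rB
  let pB : l.image ⟶ B := l.imageι ≫ pullback.snd rA rB
  have e1 : l.toImage ≫ pA = kA := by simp [pA, l]
  have e2 : l.toImage ≫ pB = kB := by simp [pB, l]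
  have e3 : pA ≫ rA = pB ≫ rB := by simp [pA, pB, pullback.condition]
  have h0 : LocImm.IsLocImmersion l.toImage :=
    IsLocImmersion.of_comp_app_injective _ pA (e1.symm ▸ hA) (app_injective_toImage _)
  obtain ⟨T₁, b₁, c₁, hb₁, hc₁, rfl⟩ := exists_adm_iso l.toImage pA h0 (e1.symm ▸ hA)
  haveI := hb₁.isNoetherian
  haveI := hb₁.isProper
  obtain ⟨k₁, hk₁, hk₁i⟩ := hb₁.exists_lift h0
  have e4 : k₁ ≫ b₁ ≫ pB = kB := by rw [reassoc_of% hk₁, e2]
  obtain ⟨T₂, b₂, c₂, hb₂, hc₂, rfl⟩ := exists_adm_iso k₁ (b₁ ≫ pB) hk₁i (e4.symm ▸ hB)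
  haveI := hb₂.isNoetherian
  obtain ⟨k₂, hk₂, hk₂i⟩ := hb₂.exists_lift hk₁i
  rw [e1] at hc₁
  rw [e4] at hc₂
  refine ⟨T₂, k₂, b₂ ≫ b₁ ≫ pA, b₂ ≫ b₁ ≫ pB, ‹_›, hk₂i,
    hc₁.comp (by rw [reassoc_of% hk₁, e1]) hb₂, hc₂, by rw [reassoc_of% hk₂, reassoc_of% hk₁, e1],
    by rw [reassoc_of% hk₂, e4], by simp only [Category.assoc, e3]⟩

/-- Finitely many proper schemes receiving a localizing immersion have a common admissible blow-up. -/
theorem exists_common_family (gU : U ⟶ S) : ∀ (n : ℕ) (Y : Fin (n + 1) → Scheme.{u})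
    [∀ i, IsNoetherian (Y i)] (q : ∀ i, Y i ⟶ S) [∀ i, IsProper (q i)] (f : ∀ i, U ⟶ Y i),
    (∀ i, LocImm.IsLocImmersion (f i)) → (∀ i, f i ≫ q i = gU) →
    ∃ (T : Scheme.{u}) (r : T ⟶ S) (k : U ⟶ T) (b : ∀ i, T ⟶ Y i), IsNoetherian T ∧ IsProper r ∧
      LocImm.IsLocImmersion k ∧ ∀ i, AdmBU (b i) (f i) ∧ k ≫ b i = f i ∧ b i ≫ q i = r := by
  intro n
  induction n with
  | zero =>
    intro Y _ q _ f hf hfq
    refine ⟨Y 0, q 0, f 0, fun i => eqToHom (by rw [Fin.eq_zero i]), inferInstance,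
      inferInstance, hf 0, fun i => ?_⟩
    obtain rfl : i = 0 := Fin.eq_zero i
    simp [admBU_id]
  | succ n ih =>
    intro Y _ q _ f hf hfq
    obtain ⟨T, r, k, b, hT, hr, hk, hb⟩ := ih (fun i => Y i.succ) (fun i => q i.succ)
      (fun i => f i.succ) (fun i => hf _) (fun i => hfq _)
    haveI := hT
    haveI := hr
    have hkr : k ≫ r = gU := by rw [← (hb 0).2.2, reassoc_of% (hb 0).2.1]; exact hfq _
    obtain ⟨T', k', bA, bB, hT', hk', hA, hB, eA, eB, e⟩ :=
      exists_common r (q 0) k (f 0) hk (hf 0) (by rw [hkr, hfq])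
    haveI := hA.isProper
    refine ⟨T', bA ≫ r, k', Fin.cases bB (fun i => bA ≫ b i), hT', inferInstance, hk', fun i => ?_⟩
    refine Fin.cases ?_ (fun j => ?_) i
    · exact ⟨hB, eB, e.symm⟩
    · simp only [Fin.cases_succ]
      exact ⟨(hb j).1.comp (hb j).2.1 (eA.symm ▸ hA), by rw [reassoc_of% eA]; exact (hb j).2.1,
        by rw [Category.assoc]; exact congrArg (bA ≫ ·) (hb j).2.2⟩

/-- The preimage of a set dense in the target of an admissible blow-up is dense. -/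
theorem AdmBU.dense_preimage {V T Y : Scheme.{u}} {b : T ⟶ Y} {k : V ⟶ Y} (h : AdmBU b k)
    {R : Set Y} (hR : Dense R) : Dense (b ⁻¹' R) := by
  obtain ⟨I, hb, -⟩ := h
  let W : Y.Opens := ⟨(I.support : Set Y)ᶜ, I.support.isClosed.isOpen_compl⟩
  haveI : IsIso (b ∣_ W) := BlowUpLib.isIso_restrict hb W (fun z hz => hz)
  let E := ModPair.interior (I.comap b)
  haveI := ModPairLib.isSchemeTheoreticallyDominant_interior hb.1
  haveI := ModPairLib.isAffineHom_interior (ModPairLib.isLocPrincipal_of_isEffCartier hb.1)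
  have hE : Dense (E : Set T) := by
    have h : DenseRange E.ι := IsDominant.denseRange
    rwa [DenseRange, Scheme.Opens.range_ι] at h
  have hEW : E ≤ b ⁻¹ᵁ W := fun t ht => fun hs => ht (by
    rw [Scheme.IdealSheafData.support_comap]; exact hs)
  rw [dense_iff_inter_open]
  intro O hO hne
  obtain ⟨t, htO, htE⟩ := dense_iff_inter_open.1 hE O hO hne
  have ho : IsOpenMap fun x => ((b ⁻¹ᵁ W).ι ≫ b) x := by
    rw [← morphismRestrict_ι]
    exact (b ∣_ W ≫ W.ι).isOpenEmbedding.isOpenMap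
  obtain ⟨y, ⟨x, hxO, hxy⟩, hyR⟩ := dense_iff_inter_open.1 hR _
    (ho _ (hO.preimage (b ⁻¹ᵁ W).ι.continuous)) ⟨_, ⟨t, hEW htE⟩, htO, rfl⟩
  refine ⟨x.1, hxO, ?_⟩
  show b x.1 ∈ R
  subst hxy
  exact hyR

end Groth.Agent.LocImmLib
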