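import Groth.Agent.LocImmLib.Chart
import Groth.Agent.MorLib.Birat
import Groth.Agent.AffineNhd.Lift
import Groth.Agent.AlgSpDec.Topo
import Groth.Agent.H23.RatExtend
import Mathlib.AlgebraicGeometry.Noetherian
import Mathlib.AlgebraicGeometry.Morphisms.Preimmersion
import Mathlib.AlgebraicGeometry.Morphisms.Flat

/-!
# Topology of localizing immersions and spreading out of isomorphisms of local rings
-/

set_option autoImplicit false
set_option linter.style.haveILetI false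
set_option backward.isDefEq.respectTransparency false

universe u

open CategoryTheory AlgebraicGeometry TopologicalSpace Opposite Topology

namespace Groth.Agent.LocImmLib

variable {X Y Z : Scheme.{u}}

theorem isIso_stalkMap {f : X ⟶ Y} (hf : LocImm.IsLocalizing f) (x : X) : IsIso (f.stalkMap x) := by
  obtain ⟨U, V, hxV, e, hφ⟩ := hf x
  letI := (f.appLE U V e).hom.toAlgebra
  obtain ⟨M, hM⟩ := hφ
  have h1 : IsPreimmersion (Spec.map (f.appLE U V e)) := IsPreimmersion.of_isLocalization (R := Γ(Y, U.1)) (S := Γ(X, V.1)) M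
  have h2 : Flat (Spec.map (f.appLE U V e)) :=
    (HasRingHomProperty.Spec_iff (P := @Flat)).2 (IsLocalization.flat (Γ(X, V.1)) M)
  have e1 := U.2.SpecMap_appLE_fromSpec f V.2 e
  haveI : IsPreimmersion (V.2.fromSpec ≫ f) := by rw [← e1]; infer_instance
  haveI : Flat (V.2.fromSpec ≫ f) := by rw [← e1]; infer_instance
  obtain ⟨q, rfl⟩ : x ∈ Set.range V.2.fromSpec := by rw [V.2.range_fromSpec]; exact hxV
  have h0 := Groth.Agent.H23.RatExtend.isIso_stalkMap (V.2.fromSpec ≫ f) q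
  rw [Scheme.Hom.stalkMap_comp] at h0
  haveI := h0
  exact @IsIso.of_isIso_comp_right _ _ _ _ _ (f.stalkMap _) (V.2.fromSpec.stalkMap q) inferInstance h0

theorem stableUnderGeneralization_range (f : X ⟶ Y) (h : ∀ x, IsIso (f.stalkMap x)) :
    StableUnderGeneralization (Set.range (fun x => f x)) := by
  rintro a b hab ⟨x, rfl⟩
  haveI := h x
  obtain ⟨q, -, hq⟩ := AffineNhd.exists_preimage f hab
  exact ⟨q, hq⟩

/-- An injective morphism from a Noetherian scheme which is an isomorphism on local rings is an embedding. -/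
theorem isEmbedding [NoetherianSpace X] (f : X ⟶ Y) (h : ∀ x, IsIso (f.stalkMap x))
    (hinj : Function.Injective (fun x => f x)) : IsEmbedding (fun x => f x) := by
  refine ⟨⟨TopologicalSpace.ext_iff_isClosed.2 fun C => ⟨fun hC => ?_, fun hC => ?_⟩⟩, hinj⟩
  · rw [isClosed_induced_iff]
    refine ⟨closure ((fun x => f x) '' C), isClosed_closure, Set.Subset.antisymm (fun z hz => ?_) fun z hz =>
      subset_closure ⟨z, hz, rfl⟩⟩
    obtain ⟨S, hSf, hSc, hS, hCeq⟩ := TopologicalSpace.NoetherianSpace.exists_finite_set_isClosed_irreducible hC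
    rw [Set.sUnion_eq_biUnion] at hCeq
    simp only [Set.mem_preimage, hCeq, Set.image_iUnion, hSf.closure_biUnion, Set.mem_iUnion] at hz
    obtain ⟨T, hT, hzT⟩ := hz
    have hirr : IsIrreducible T := hS T hT
    have hgp : (fun x => f x) '' T ⊆ closure {f hirr.genericPoint} := by
      rintro _ ⟨t, ht, rfl⟩
      refine specializes_iff_mem_closure.1 (Specializes.map ?_ f.continuous)
      rw [specializes_iff_mem_closure, hirr.isGenericPoint_genericPoint_closure]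
      exact subset_closure ht
    have h2 : f hirr.genericPoint ⤳ f z :=
      specializes_iff_mem_closure.2 (closure_minimal hgp isClosed_closure hzT)
    haveI := h z
    obtain ⟨x', hx'z, hx'⟩ := AffineNhd.exists_preimage f h2
    obtain rfl := hinj hx'
    rw [hCeq]
    exact Set.mem_biUnion hT (hx'z.mem_closed (hSc T hT) (hirr.isGenericPoint_genericPoint (hSc T hT)).mem)
  · obtain ⟨D, hD, rfl⟩ := isClosed_induced_iff.1 hC
    exact hD.preimage f.continuous

theorem IsLocImmersion.isEmbedding [NoetherianSpace X] {f : X ⟶ Y} (hf : LocImm.IsLocImmersion f) :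
    IsEmbedding (fun x => f x) :=
  LocImmLib.isEmbedding f (isIso_stalkMap hf.1) hf.2

theorem IsLocImmersion.stableUnderGeneralization_range {f : X ⟶ Y} (hf : LocImm.IsLocImmersion f) :
    StableUnderGeneralization (Set.range (fun x => f x)) :=
  LocImmLib.stableUnderGeneralization_range f (isIso_stalkMap hf.1)

/-- A localizing immersion has charts which are full preimages. -/
theorem IsLocImmersion.exists_chart [NoetherianSpace X] {f : X ⟶ Y} (hf : LocImm.IsLocImmersion f) (x : X)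
    {N : Y.Opens} (hx : f x ∈ N) :
    ∃ U : Y.Opens, f x ∈ U ∧ U ≤ N ∧ IsAffineOpen U ∧ IsAffineOpen (f ⁻¹ᵁ U) ∧ LocImm.IsLocHom (f.app U).hom := by
  obtain ⟨U₀, V₀, hU, hV, e, hxV, hUN, h⟩ := exists_chart_le hf.1 x hx
  obtain ⟨W, hW, hWV⟩ := (IsLocImmersion.isEmbedding hf).isInducing.isOpen_iff.1 V₀.2
  have hxW : f x ∈ W := show x ∈ (fun x => f x) ⁻¹' W from hWV.symm ▸ (hxV : x ∈ V₀.carrier)
  obtain ⟨a, ha, hxa⟩ := hU.exists_basicOpen_le (V := (⟨W, hW⟩ : Y.Opens)) ⟨f x, hxW⟩ (e hxV)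
  obtain ⟨h1, h2⟩ := chart_basicOpen f hU hV e h a
  have heq : V₀ ⊓ f ⁻¹ᵁ Y.basicOpen a = f ⁻¹ᵁ Y.basicOpen a := by
    refine inf_eq_right.2 fun z hz => ?_
    show z ∈ V₀.carrier
    rw [← hWV]
    exact ha hz
  refine ⟨Y.basicOpen a, hxa, (Y.basicOpen_le a).trans hUN, hU.basicOpen a, heq ▸ h1, ?_⟩
  rw [Scheme.Hom.app_eq_appLE]
  suffices ∀ (V : X.Opens) (hV : V = V₀ ⊓ f ⁻¹ᵁ Y.basicOpen a) (e' : V ≤ f ⁻¹ᵁ Y.basicOpen a),
      LocImm.IsLocHom (f.appLE (Y.basicOpen a) V e').hom from this _ heq.symm _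
  rintro V rfl e'
  exact h2

theorem mem_of_forall_opens {Z : Type*} [TopologicalSpace Z] {T : Set Z} (hT : StableUnderGeneralization T) {z : Z}
    (h : ∀ N : Opens Z, T ⊆ N → z ∈ N) : z ∈ T := by
  by_contra hz
  refine h ⟨(closure {z})ᶜ, isClosed_closure.isOpen_compl⟩ (fun t ht htz => hz ?_) (subset_closure rfl)
  exact hT (specializes_iff_mem_closure.2 htz) ht

/-- A decreasing family of constructible sets of a Noetherian scheme with empty intersection contains the empty set. -/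
theorem exists_eq_empty [IsNoetherian Z] {ι : Type*} [Nonempty ι] (A B : ι → Set Z) (hA : ∀ i, IsOpen (A i))
    (hB : ∀ i, IsOpen (B i)) (hdir : Directed (· ⊇ ·) fun i => A i \ B i) (h : ∀ z, ∃ i, z ∉ A i \ B i) :
    ∃ i, A i \ B i = ∅ := by
  by_contra! hne
  haveI : SpectralSpace Z := {}
  let π := WithTopology.ofTopology (t := constructibleTopology Z)
  have hclosed : ∀ i, IsClosed (π ⁻¹' (A i \ B i)) := fun i =>
    (Groth.Agent.AlgSpDec.isClosed_constructible_of_isCompact (NoetherianSpace.isCompact _) (hA i)).inter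
      (Groth.Agent.AlgSpDec.isClosed_constructible_of_isClosed (hB i).isClosed_compl)
  obtain ⟨x, hx⟩ := IsCompact.nonempty_iInter_of_directed_nonempty_isCompact_isClosed
    (fun i => π ⁻¹' (A i \ B i))
    (fun i j => let ⟨k, hi, hj⟩ := hdir i j; ⟨k, Set.preimage_mono hi, Set.preimage_mono hj⟩)
    (fun i => (hne i).preimage (WithTopology.ofTopology_surjective _))
    (fun i => (hclosed i).isCompact) hclosed
  obtain ⟨i, hi⟩ := h (π x)
  exact hi ((Set.mem_iInter.1 hx) i)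

/-- A morphism of finite type is an open immersion near a generization-stable set on which it is
injective and an isomorphism on local rings. -/
theorem exists_open_isOpenImmersion [IsNoetherian Z] [IsLocallyNoetherian Y] (q : Z ⟶ Y) [LocallyOfFiniteType q]
    {T : Set Z} (hT : StableUnderGeneralization T) (hiso : ∀ t ∈ T, IsIso (q.stalkMap t))
    (hinj : Set.InjOn (fun z => q z) T) : ∃ N : Z.Opens, T ⊆ N ∧ IsOpenImmersion (N.ι ≫ q) := by
  classical
  have hloc : ∀ t : T, ∃ N : Z.Opens, (t : Z) ∈ N ∧ IsOpenImmersion (N.ι ≫ q) := by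
    rintro ⟨t, ht⟩
    obtain ⟨V₀, hV₀, htV, -⟩ := exists_isAffineOpen_mem_and_subset (x := q t) (U := ⊤) (Set.mem_univ _)
    obtain ⟨U₀, hU₀, htU, hUV⟩ := exists_isAffineOpen_mem_and_subset (x := t) (U := q ⁻¹ᵁ V₀) htV
    obtain ⟨U, V, hUV', htU', -, -, hres⟩ :=
      Groth.Agent.MorLib.Birat.exists_isIso_resLE q (hiso t ht) hV₀ hU₀ hUV htU (Or.inl inferInstance)
    exact ⟨U, htU', by rw [← Scheme.Hom.resLE_comp_ι q hUV']; infer_instance⟩
  choose N hN hNq using hloc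
  obtain ⟨s, hs⟩ := (NoetherianSpace.isCompact T).elim_finite_subcover (fun t : T => (N t : Set Z))
    (fun t => (N t).2) fun t ht => Set.mem_iUnion.2 ⟨⟨t, ht⟩, hN ⟨t, ht⟩⟩
  have hopen : ∀ (i : T) (A : Set Z), IsOpen A → IsOpen ((fun z => q z) '' (A ∩ N i)) := fun i A hA => by
    have : (fun z => q z) '' (A ∩ N i) = (fun z => ((N i).ι ≫ q) z) '' ((N i).ι ⁻¹' A) := by
      ext y
      constructor
      · rintro ⟨z, ⟨hzA, hzN⟩, rfl⟩; exact ⟨⟨z, hzN⟩, hzA, rfl⟩
      · rintro ⟨z, hz, rfl⟩; exact ⟨(N i).ι z, ⟨hz, z.2⟩, rfl⟩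
    rw [this]
    exact (hNq i).base_open.isOpenMap _ (hA.preimage (N i).ι.continuous)
  have hinjN : ∀ i : T, Set.InjOn (fun z => q z) (N i : Set Z) := fun i a ha b hb hab =>
    congrArg Subtype.val ((hNq i).base_open.injective
      (show ((N i).ι ≫ q) ⟨a, ha⟩ = ((N i).ι ≫ q) ⟨b, hb⟩ from hab))
  have hbad : ∀ i j : T, ∃ M : Z.Opens, T ⊆ M ∧
      ∀ a ∈ (M : Set Z) ∩ N i, ∀ b ∈ (M : Set Z) ∩ N j, q a = q b → a ∈ N j := by
    intro i j
    let A : {M : Z.Opens // T ⊆ M} → Set Z := fun M =>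
      ((M.1 : Set Z) ∩ N i) ∩ (fun z => q z) ⁻¹' ((fun z => q z) '' ((M.1 : Set Z) ∩ N j))
    haveI : Nonempty {M : Z.Opens // T ⊆ M} := ⟨⟨⊤, Set.subset_univ _⟩⟩
    obtain ⟨M, hM⟩ := exists_eq_empty A (fun _ => (N j : Set Z))
      (fun M => (M.1.2.inter (N i).2).inter ((hopen j _ M.1.2).preimage q.continuous)) (fun _ => (N j).2)
      (fun M M' => ⟨⟨M.1 ⊓ M'.1, fun t ht => ⟨M.2 ht, M'.2 ht⟩⟩,
        fun a ha => ⟨⟨⟨ha.1.1.1.1, ha.1.1.2⟩, (let ⟨b, ⟨hb, hbN⟩, he⟩ := ha.1.2; ⟨b, ⟨hb.1, hbN⟩, he⟩)⟩, ha.2⟩,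
        fun a ha => ⟨⟨⟨ha.1.1.1.2, ha.1.1.2⟩, (let ⟨b, ⟨hb, hbN⟩, he⟩ := ha.1.2; ⟨b, ⟨hb.2, hbN⟩, he⟩)⟩, ha.2⟩⟩)
      (fun a => by
        by_contra! hall
        have haT : a ∈ T := mem_of_forall_opens hT fun M hM => (hall ⟨M, hM⟩).1.1.1
        obtain ⟨b, ⟨-, hbN⟩, hb⟩ := (hall ⟨⊤, Set.subset_univ _⟩).1.2
        have hbT : b ∈ T := mem_of_forall_opens hT fun M hM => by
          obtain ⟨b', ⟨hb'M, hb'N⟩, hb'⟩ := (hall ⟨M, hM⟩).1.2
          obtain rfl := hinjN j hb'N hbN (hb'.trans hb.symm)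
          exact hb'M
        exact (hall ⟨⊤, Set.subset_univ _⟩).2 (hinj hbT haT hb ▸ hbN))
    refine ⟨M.1, M.2, fun a ha b hb hab => ?_⟩
    by_contra haN
    exact hM.le (show a ∈ A M \ (N j : Set Z) from ⟨⟨ha, b, hb, hab.symm⟩, haN⟩)
  choose M hMT hM using hbad
  let W : Z.Opens := (s.sup N) ⊓ (s ×ˢ s).inf fun p => M p.1 p.2
  have hmem : ∀ a ∈ W, ∃ i ∈ s, a ∈ N i := fun a ha => by
    have : a ∈ ((s.sup N : Z.Opens) : Set Z) := ha.1
    rw [Opens.coe_finset_sup, Finset.sup_set_eq_biUnion] at this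
    simpa using this
  have hWM : ∀ a ∈ W, ∀ i ∈ s, ∀ j ∈ s, a ∈ M i j := fun a ha i hi j hj =>
    (Finset.inf_le (f := fun p => M p.1 p.2) (Finset.mk_mem_product hi hj)) ha.2
  have hTW : T ⊆ W := fun t ht => by
    refine ⟨?_, ?_⟩
    · show t ∈ ((s.sup N : Z.Opens) : Set Z)
      rw [Opens.coe_finset_sup, Finset.sup_set_eq_biUnion]
      simpa using hs ht
    · show t ∈ ((((s ×ˢ s).inf fun p => M p.1 p.2) : Z.Opens) : Set Z)
      rw [Opens.coe_finset_inf]
      simp only [Finset.inf_set_eq_iInter, Set.mem_iInter]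
      exact fun p _ => hMT p.1 p.2 ht
  refine ⟨W, hTW, ?_⟩
  have hinjW : Function.Injective (fun z : (W : Scheme.{u}) => (W.ι ≫ q) z) := by
    rintro ⟨a, ha⟩ ⟨b, hb⟩ hab
    obtain ⟨i, hi, hai⟩ := hmem a ha
    obtain ⟨j, hj, hbj⟩ := hmem b hb
    have haj := hM i j a ⟨hWM a ha i hi j hj, hai⟩ b ⟨hWM b hb i hi j hj, hbj⟩ hab
    exact Subtype.ext (hinjN j haj hbj hab)
  haveI hst : ∀ z : (W : Scheme.{u}), IsIso ((W.ι ≫ q).stalkMap z) := by
    rintro ⟨a, ha⟩
    obtain ⟨i, -, hai⟩ := hmem a ha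
    haveI := hNq i
    have h0 : IsIso (((N i).ι ≫ q).stalkMap ⟨a, hai⟩) := inferInstance
    rw [Scheme.Hom.stalkMap_comp] at h0
    haveI := h0
    haveI : IsIso (q.stalkMap a) :=
      @IsIso.of_isIso_comp_right _ _ _ _ _ (q.stalkMap a) ((N i).ι.stalkMap ⟨a, hai⟩) inferInstance h0
    rw [Scheme.Hom.stalkMap_comp]
    exact inferInstanceAs (IsIso (q.stalkMap a ≫ W.ι.stalkMap ⟨a, ha⟩))
  refine IsOpenImmersion.of_isIso_stalkMap _
    (Topology.IsOpenEmbedding.of_continuous_injective_isOpenMap (W.ι ≫ q).continuous hinjW fun O hO => ?_)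
  have hO' : IsOpen (W.ι '' O) := W.ι.isOpenEmbedding.isOpenMap _ hO
  have : (W.ι ≫ q) '' O = ⋃ i ∈ s, (fun z => q z) '' ((W.ι '' O) ∩ N i) := by
    ext y
    simp only [Set.mem_iUnion]
    constructor
    · rintro ⟨z, hz, rfl⟩
      obtain ⟨i, hi, hzi⟩ := hmem z.1 z.2
      exact ⟨i, hi, W.ι z, ⟨⟨z, hz, rfl⟩, hzi⟩, rfl⟩
    · rintro ⟨i, -, _, ⟨⟨z, hz, rfl⟩, -⟩, rfl⟩
      exact ⟨z, hz, rfl⟩
  show IsOpen ((W.ι ≫ q) '' O)
  rw [this]
  exact isOpen_biUnion fun i _ => hopen i _ hO'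

/-- A localizing immersion of finite type with Noetherian schemes is an open immersion. -/
theorem IsLocImmersion.isOpenImmersion [IsNoetherian X] [IsLocallyNoetherian Y] {f : X ⟶ Y}
    (hf : LocImm.IsLocImmersion f) [LocallyOfFiniteType f] : IsOpenImmersion f := by
  obtain ⟨N, hN, hNf⟩ := exists_open_isOpenImmersion f (T := Set.univ) (fun _ _ _ _ => trivial)
    (fun x _ => isIso_stalkMap hf.1 x) (fun a _ b _ h => hf.2 h)
  have hN' : N = ⊤ := top_unique fun x _ => hN (Set.mem_univ x)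
  subst hN'
  exact (MorphismProperty.cancel_left_of_respectsIso @IsOpenImmersion X.topIso.hom f).1 (by
    rw [Scheme.topIso_hom]; exact hNf)

end Groth.Agent.LocImmLib
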