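import Groth.Agent.LocImmLib.Glue
import Groth.Prelude.Def_EssFT
import Mathlib.RingTheory.EssentialFiniteness

/-!
# Factorization of morphisms essentially of finite type
-/

set_option autoImplicit false
set_option linter.style.haveILetI false
set_option backward.isDefEq.respectTransparency false
set_option backward.isDefEq.respectTransparency.types false
set_option linter.unusedVariables false

universe u

open CategoryTheory CategoryTheory.Limits AlgebraicGeometry TopologicalSpace Opposite Topology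

namespace Groth.Agent.LocImmLib

variable {X Y S : Scheme.{u}}

theorem isNoetherian_opens [IsNoetherian X] (U : X.Opens) : IsNoetherian (U : Scheme.{u}) :=
  haveI : CompactSpace (U : Scheme.{u}) := isCompact_iff_compactSpace.1 (NoetherianSpace.isCompact (U : Set X))
  { }

/-- Two factorizations through localizing immersions glue to one. -/
theorem exists_factor_two [IsNoetherian X] [IsNoetherian S] (f : X ⟶ S) [IsSeparated f]
    (U₁ U₂ : X.Opens) (hU : U₁ ⊔ U₂ = ⊤) {Y₁ Y₂ : Scheme.{u}} [IsNoetherian Y₁] [IsNoetherian Y₂]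
    (k₁ : (U₁ : Scheme.{u}) ⟶ Y₁) (k₂ : (U₂ : Scheme.{u}) ⟶ Y₂) (p₁ : Y₁ ⟶ S) (p₂ : Y₂ ⟶ S)
    (hk₁ : LocImm.IsLocImmersion k₁) (hk₂ : LocImm.IsLocImmersion k₂)
    [IsSeparated p₁] [IsSeparated p₂] [LocallyOfFiniteType p₁] [LocallyOfFiniteType p₂] [QuasiCompact p₁] [QuasiCompact p₂]
    (h₁ : k₁ ≫ p₁ = U₁.ι ≫ f) (h₂ : k₂ ≫ p₂ = U₂.ι ≫ f) :
    ∃ (Y : Scheme.{u}) (k : X ⟶ Y) (p : Y ⟶ S), IsNoetherian Y ∧ LocImm.IsLocImmersion k ∧
      IsSeparated p ∧ LocallyOfFiniteType p ∧ QuasiCompact p ∧ k ≫ p = f := by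
  classical
  haveI := isNoetherian_opens U₁
  haveI := isNoetherian_opens U₂
  haveI := isNoetherian_opens (U₁ ⊓ U₂)
  let w₁ := X.homOfLE (inf_le_left : U₁ ⊓ U₂ ≤ U₁)
  let w₂ := X.homOfLE (inf_le_right : U₁ ⊓ U₂ ≤ U₂)
  have hl₁ : LocImm.IsLocImmersion (w₁ ≫ k₁) := IsLocImmersion.comp (isLocImmersion_of_isOpenImmersion w₁) hk₁
  have hl₂ : LocImm.IsLocImmersion (w₂ ≫ k₂) := IsLocImmersion.comp (isLocImmersion_of_isOpenImmersion w₂) hk₂
  have hw : (w₁ ≫ k₁) ≫ p₁ = (w₂ ≫ k₂) ≫ p₂ := by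
    rw [Category.assoc, Category.assoc, h₁, h₂, Scheme.homOfLE_ι_assoc, Scheme.homOfLE_ι_assoc]
  obtain ⟨hj, N, hNj, hN₁, hN₂⟩ := exists_open_image _ _ p₁ p₂ hw hl₁ hl₂
  let m := pullback.lift (w₁ ≫ k₁) (w₂ ≫ k₂) hw
  haveI : IsNoetherian (pullback p₁ p₂) := isNoetherian_of_finiteType (pullback.fst p₁ p₂ ≫ p₁)
  haveI : IsNoetherian m.image := isNoetherian_of_finiteType m.imageι
  let ζ : m.image ⟶ pullback p₁ p₂ := m.imageι
  have hTZ : ∀ t : ↥(pullback p₁ p₂), t ∈ closure (Set.range (fun w => m w)) →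
      pullback.fst p₁ p₂ t ∈ Set.range (fun x => k₁ x) → pullback.snd p₁ p₂ t ∈ Set.range (fun x => k₂ x) →
      t ∈ Set.range (fun w => m w) := by
    intro t ht h1 h2
    let μ := pullback.map (U₁.ι ≫ f) (U₂.ι ≫ f) p₁ p₂ k₁ k₂ (𝟙 S) (by simp [h₁]) (by simp [h₂])
    haveI := IsLocImmersion.isPreimmersion hk₁
    haveI := IsLocImmersion.isPreimmersion hk₂
    haveI : IsPreimmersion μ := MorphismProperty.pullbackMap (P := @IsPreimmersion) inferInstance inferInstance h₁.symm h₂.symm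
    let δ := (isPullback_opens_inf U₁ U₂).isoPullback.hom ≫ pullback.mapDesc U₁.ι U₂.ι f
    haveI : IsClosedImmersion δ := inferInstance
    have hm : δ ≫ μ = m := by
      ext <;> simp [δ, μ, m, w₁, w₂, pullback.mapDesc, IsPullback.isoPullback_hom_fst_assoc,
        IsPullback.isoPullback_hom_snd_assoc]
    obtain ⟨q, rfl⟩ : t ∈ Set.range μ := by
      rw [Scheme.Pullback.range_map]
      exact ⟨h1, h2⟩
    have hq : q ∈ Set.range δ := by
      have h4 : closure (Set.range (fun w => m w)) ⊆ closure ((fun q => μ q) '' Set.range δ) :=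
        closure_mono (by rintro _ ⟨w, rfl⟩; exact ⟨δ w, ⟨w, rfl⟩, congr($(hm) w)⟩)
      have h5 : q ∈ closure (Set.range δ) := by
        rw [μ.isEmbedding.closure_eq_preimage_closure_image]
        exact h4 ht
      rwa [δ.isClosedEmbedding.isClosed_range.closure_eq] at h5
    obtain ⟨w, rfl⟩ := hq
    exact ⟨w, congr($(hm.symm) w)⟩
  -- the neighbourhoods
  let ι := {M : Y₁.Opens × Y₂.Opens //
    Set.range (fun x => k₁ x) ⊆ (M.1 : Set Y₁) ∧ Set.range (fun x => k₂ x) ⊆ (M.2 : Set Y₂)}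
  haveI : Nonempty ι := ⟨⟨(⊤, ⊤), Set.subset_univ _, Set.subset_univ _⟩⟩
  let P' : ι → (pullback p₁ p₂).Opens := fun M => pullback.fst p₁ p₂ ⁻¹ᵁ M.1.1 ⊓ pullback.snd p₁ p₂ ⁻¹ᵁ M.1.2
  obtain ⟨M, hM⟩ := exists_eq_empty (fun M : ι => ((ζ ⁻¹ᵁ P' M : m.image.Opens) : Set m.image))
    (fun _ => (N : Set m.image)) (fun M => (ζ ⁻¹ᵁ P' M).2) (fun _ => N.2)
    (fun M M' => ⟨⟨(M.1.1 ⊓ M'.1.1, M.1.2 ⊓ M'.1.2), fun y hy => ⟨M.2.1 hy, M'.2.1 hy⟩, fun y hy => ⟨M.2.2 hy, M'.2.2 hy⟩⟩,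
      fun z hz => ⟨⟨hz.1.1.1, hz.1.2.1⟩, hz.2⟩, fun z hz => ⟨⟨hz.1.1.2, hz.1.2.2⟩, hz.2⟩⟩)
    (fun z => by
      by_contra! hall
      have h1 : pullback.fst p₁ p₂ (ζ z) ∈ Set.range (fun x => k₁ x) :=
        mem_of_forall_opens (IsLocImmersion.stableUnderGeneralization_range hk₁) fun O hO =>
          (hall ⟨(O, ⊤), hO, Set.subset_univ _⟩).1.1
      have h2 : pullback.snd p₁ p₂ (ζ z) ∈ Set.range (fun x => k₂ x) :=
        mem_of_forall_opens (IsLocImmersion.stableUnderGeneralization_range hk₂) fun O hO =>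
          (hall ⟨(⊤, O), Set.subset_univ _, hO⟩).1.2
      obtain ⟨w, hw'⟩ := hTZ (ζ z) ((range_imageι m).le ⟨z, rfl⟩) h1 h2
      have hz : m.toImage w = z := ζ.isEmbedding.injective
        (show (m.toImage ≫ m.imageι) w = ζ z by rw [Scheme.Hom.toImage_imageι]; exact hw')
      exact (hall ⟨(⊤, ⊤), Set.subset_univ _, Set.subset_univ _⟩).2 (hNj ⟨w, hz⟩))
  obtain ⟨⟨N₁, N₂⟩, hk₁N, hk₂N⟩ := M
  let P₀ : (pullback p₁ p₂).Opens := pullback.fst p₁ p₂ ⁻¹ᵁ N₁ ⊓ pullback.snd p₁ p₂ ⁻¹ᵁ N₂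
  let O : m.image.Opens := ζ ⁻¹ᵁ P₀
  have hON : O ≤ N := fun z hz => by
    by_contra hzN
    exact hM.le (show z ∈ (ζ ⁻¹ᵁ P₀ : Set m.image) \ (N : Set m.image) from ⟨hz, hzN⟩)
  let α : (O : Scheme.{u}) ⟶ N₁ := (ζ ≫ pullback.fst p₁ p₂).resLE N₁ O fun z hz => hz.1
  let β : (O : Scheme.{u}) ⟶ N₂ := (ζ ≫ pullback.snd p₁ p₂).resLE N₂ O fun z hz => hz.2
  have hα : α ≫ N₁.ι = O.ι ≫ ζ ≫ pullback.fst p₁ p₂ := Scheme.Hom.resLE_comp_ι _ _
  have hβ : β ≫ N₂.ι = O.ι ≫ ζ ≫ pullback.snd p₁ p₂ := Scheme.Hom.resLE_comp_ι _ _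
  haveI : IsOpenImmersion α := by
    haveI : IsOpenImmersion (α ≫ N₁.ι) := by
      rw [hα, ← m.image.homOfLE_ι hON, Category.assoc]
      haveI := hN₁
      infer_instance
    exact IsOpenImmersion.of_comp α N₁.ι
  haveI : IsOpenImmersion β := by
    haveI : IsOpenImmersion (β ≫ N₂.ι) := by
      rw [hβ, ← m.image.homOfLE_ι hON, Category.assoc]
      haveI := hN₂
      infer_instance
    exact IsOpenImmersion.of_comp β N₂.ι
  have hαβ : α ≫ (N₁.ι ≫ p₁) = β ≫ (N₂.ι ≫ p₂) := by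
    rw [reassoc_of% hα, reassoc_of% hβ, pullback.condition]
  haveI : IsClosedImmersion (pullback.lift α β hαβ) := by
    let μ' := pullback.map (N₁.ι ≫ p₁) (N₂.ι ≫ p₂) p₁ p₂ N₁.ι N₂.ι (𝟙 S) (by simp) (by simp)
    haveI : IsPreimmersion μ' := MorphismProperty.pullbackMap (P := @IsPreimmersion) inferInstance inferInstance rfl rfl
    have hμ : pullback.lift α β hαβ ≫ μ' = O.ι ≫ ζ := by ext <;> simp [μ', hα, hβ]
    haveI : IsPreimmersion (pullback.lift α β hαβ ≫ μ') := by rw [hμ]; infer_instance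
    haveI := IsPreimmersion.of_comp (pullback.lift α β hαβ) μ'
    refine IsClosedImmersion.of_isPreimmersion _ ?_
    have : Set.range (pullback.lift α β hαβ) = μ' ⁻¹' Set.range ζ := by
      ext t
      constructor
      · rintro ⟨o, rfl⟩
        exact ⟨O.ι o, congr($(hμ.symm) o)⟩
      · rintro ⟨z, hz⟩
        have hzO : z ∈ O := by
          have : μ' t ∈ Set.range μ' := ⟨t, rfl⟩
          rw [Scheme.Pullback.range_map, Scheme.Opens.range_ι, Scheme.Opens.range_ι] at this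
          show ζ z ∈ P₀
          rw [hz]; exact this
        exact ⟨⟨z, hzO⟩, μ'.isEmbedding.injective ((congr($(hμ) ⟨z, hzO⟩)).trans hz)⟩
    rw [this]
    exact ζ.isClosedEmbedding.isClosed_range.preimage μ'.continuous
  -- the glueing
  let p : pushout α β ⟶ S := pushout.desc (N₁.ι ≫ p₁) (N₂.ι ≫ p₂) hαβ
  have hcov := AlgGlue.pushout_cover α β
  haveI : IsSeparated (pushout.inl α β ≫ p) := by rw [pushout.inl_desc]; infer_instance
  haveI : IsSeparated (pushout.inr α β ≫ p) := by rw [pushout.inr_desc]; infer_instance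
  haveI : IsClosedImmersion (pullback.lift α β (show α ≫ (pushout.inl α β ≫ p) = β ≫ (pushout.inr α β ≫ p) by
      rw [← Category.assoc, pushout.condition, Category.assoc])) := by
    have e : pullback.lift α β hαβ ≫ (pullback.congrHom (pushout.inl_desc _ _ hαβ).symm (pushout.inr_desc _ _ hαβ).symm).hom =
        pullback.lift α β (show α ≫ (pushout.inl α β ≫ p) = β ≫ (pushout.inr α β ≫ p) by
          rw [← Category.assoc, pushout.condition, Category.assoc]) := by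
      ext
      · simp only [pullback.congrHom_hom, Category.assoc, pullback.lift_fst, Category.comp_id]
        exact (pullback.lift_fst _ _ _).symm
      · simp only [pullback.congrHom_hom, Category.assoc, pullback.lift_snd, Category.comp_id]
        exact (pullback.lift_snd _ _ _).symm
    rw [← e]
    infer_instance
  have hsep : IsSeparated p := isSeparated_of_two p (pushout.inl α β) (pushout.inr α β) hcov α β pushout.condition
    (fun x x' h => AlgGlue.pushout_overlap α β h)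
  let C : Bool → (pushout α β).Opens := fun b => if b then (pushout.inl α β).opensRange else (pushout.inr α β).opensRange
  have hlft : LocallyOfFiniteType p := by
    refine IsZariskiLocalAtSource.of_iSup_eq_top (P := @LocallyOfFiniteType) C (top_le_iff.1 fun z _ => ?_) fun b => ?_
    · rcases hcov z with hz | hz
      · exact Opens.mem_iSup.2 ⟨true, hz⟩
      · exact Opens.mem_iSup.2 ⟨false, hz⟩
    · cases b
      · haveI : LocallyOfFiniteType (pushout.inr α β ≫ p) := by rw [pushout.inr_desc]; infer_instance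
        show LocallyOfFiniteType ((pushout.inr α β).opensRange.ι ≫ p)
        rw [← Scheme.Hom.isoOpensRange_inv_comp, Category.assoc]
        infer_instance
      · haveI : LocallyOfFiniteType (pushout.inl α β ≫ p) := by rw [pushout.inl_desc]; infer_instance
        show LocallyOfFiniteType ((pushout.inl α β).opensRange.ι ≫ p)
        rw [← Scheme.Hom.isoOpensRange_inv_comp, Category.assoc]
        infer_instance
  haveI := hlft
  haveI := isNoetherian_opens N₁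
  haveI := isNoetherian_opens N₂
  haveI : CompactSpace (pushout α β : Scheme.{u}) := by
    refine ⟨?_⟩
    rw [show (Set.univ : Set (pushout α β : Scheme.{u})) = Set.range (pushout.inl α β) ∪ Set.range (pushout.inr α β) from
      (Set.eq_univ_iff_forall.2 fun z => (hcov z).imp id id).symm]
    exact (isCompact_range (pushout.inl α β).continuous).union (isCompact_range (pushout.inr α β).continuous)
  haveI := LocallyOfFiniteType.isLocallyNoetherian p
  have hY : IsNoetherian (pushout α β : Scheme.{u}) := { }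
  -- the map from `X`
  let κ₁ : (U₁ : Scheme.{u}) ⟶ N₁ := IsOpenImmersion.lift N₁.ι k₁ (by rw [Scheme.Opens.range_ι]; exact hk₁N)
  let κ₂ : (U₂ : Scheme.{u}) ⟶ N₂ := IsOpenImmersion.lift N₂.ι k₂ (by rw [Scheme.Opens.range_ι]; exact hk₂N)
  have hκ₁ : κ₁ ≫ N₁.ι = k₁ := IsOpenImmersion.lift_fac _ _ _
  have hκ₂ : κ₂ ≫ N₂.ι = k₂ := IsOpenImmersion.lift_fac _ _ _
  let t : (↑(U₁ ⊓ U₂) : Scheme.{u}) ⟶ O := IsOpenImmersion.lift O.ι m.toImage (by
    rw [Scheme.Opens.range_ι]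
    rintro _ ⟨w, rfl⟩
    show ζ (m.toImage w) ∈ P₀
    rw [← Scheme.Hom.comp_apply, Scheme.Hom.toImage_imageι]
    refine ⟨?_, ?_⟩
    · show (m ≫ pullback.fst p₁ p₂) w ∈ N₁
      rw [pullback.lift_fst]
      exact hk₁N ⟨w₁ w, rfl⟩
    · show (m ≫ pullback.snd p₁ p₂) w ∈ N₂
      rw [pullback.lift_snd]
      exact hk₂N ⟨w₂ w, rfl⟩)
  have ht : t ≫ O.ι ≫ ζ = m := by rw [IsOpenImmersion.lift_fac_assoc, Scheme.Hom.toImage_imageι]
  have e₁ : w₁ ≫ κ₁ = t ≫ α := by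
    rw [← cancel_mono N₁.ι, Category.assoc, Category.assoc, hκ₁, hα, reassoc_of% ht, pullback.lift_fst]
  have e₂ : w₂ ≫ κ₂ = t ≫ β := by
    rw [← cancel_mono N₂.ι, Category.assoc, Category.assoc, hκ₂, hβ, reassoc_of% ht, pullback.lift_snd]
  obtain ⟨k, hka, hkb⟩ := AlgGlue.exists_glue_two U₁ U₂ hU (κ₁ ≫ pushout.inl α β) (κ₂ ≫ pushout.inr α β) (by
    rw [reassoc_of% e₁, reassoc_of% e₂, pushout.condition])
  have hloc₁ : LocImm.IsLocImmersion κ₁ := IsLocImmersion.of_comp_openImmersion N₁.ι (hκ₁.symm ▸ hk₁)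
  have hloc₂ : LocImm.IsLocImmersion κ₂ := IsLocImmersion.of_comp_openImmersion N₂.ι (hκ₂.symm ▸ hk₂)
  have hmix : ∀ (a : (U₁ : Scheme.{u})) (b : (U₂ : Scheme.{u})), k a.1 = k b.1 → a.1 ∈ U₂ := by
    intro a b hab
    have h : pushout.inl α β (κ₁ a) = pushout.inr α β (κ₂ b) :=
      (congr($(hka) a)).symm.trans ((show k a.1 = k b.1 from hab).trans (congr($(hkb) b)))
    obtain ⟨o, ho1, ho2⟩ := AlgGlue.pushout_overlap α β h
    have f1 : pullback.fst p₁ p₂ (ζ (O.ι o)) = k₁ a := by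
      show (O.ι ≫ ζ ≫ pullback.fst p₁ p₂) o = _
      rw [← hα, Scheme.Hom.comp_apply, ho1, ← Scheme.Hom.comp_apply, hκ₁]
    have f2 : pullback.snd p₁ p₂ (ζ (O.ι o)) = k₂ b := by
      show (O.ι ≫ ζ ≫ pullback.snd p₁ p₂) o = _
      rw [← hβ, Scheme.Hom.comp_apply, ho2, ← Scheme.Hom.comp_apply, hκ₂]
    obtain ⟨w, hw'⟩ := hTZ (ζ (O.ι o)) ((range_imageι m).le ⟨O.ι o, rfl⟩) ⟨a, f1.symm⟩ ⟨b, f2.symm⟩
    have h3 : k₁ (w₁ w) = k₁ a := by
      rw [← f1, ← show m w = ζ (O.ι o) from hw', ← Scheme.Hom.comp_apply, ← Scheme.Hom.comp_apply, pullback.lift_fst]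
    rw [← hk₁.2 h3]
    show U₁.ι (w₁ w) ∈ U₂
    rw [← Scheme.Hom.comp_apply, Scheme.homOfLE_ι]
    exact w.2.2
  refine ⟨_, k, p, hY, ⟨?_, ?_⟩, hsep, hlft, inferInstance, ?_⟩
  · refine isLocalizing_of_cover fun x => ?_
    rcases hU.ge (show x ∈ (⊤ : X.Opens) from trivial) with hx | hx
    · exact ⟨_, U₁.ι, inferInstance, ⟨⟨x, hx⟩, rfl⟩, hka ▸ IsLocalizing.comp hloc₁.1 (isLocalizing_of_isOpenImmersion _)⟩
    · exact ⟨_, U₂.ι, inferInstance, ⟨⟨x, hx⟩, rfl⟩, hkb ▸ IsLocalizing.comp hloc₂.1 (isLocalizing_of_isOpenImmersion _)⟩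
  · have inj₁ : ∀ a b : (U₁ : Scheme.{u}), k a.1 = k b.1 → a = b := fun a b hab =>
      hloc₁.2 ((pushout.inl α β).isOpenEmbedding.injective
        ((congr($(hka) a)).symm.trans ((show k a.1 = k b.1 from hab).trans (congr($(hka) b)))))
    have inj₂ : ∀ a b : (U₂ : Scheme.{u}), k a.1 = k b.1 → a = b := fun a b hab =>
      hloc₂.2 ((pushout.inr α β).isOpenEmbedding.injective
        ((congr($(hkb) a)).symm.trans ((show k a.1 = k b.1 from hab).trans (congr($(hkb) b)))))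
    intro x y hxy
    rcases hU.ge (show x ∈ (⊤ : X.Opens) from trivial) with hx | hx <;>
      rcases hU.ge (show y ∈ (⊤ : X.Opens) from trivial) with hy | hy
    · exact congrArg Subtype.val (inj₁ ⟨x, hx⟩ ⟨y, hy⟩ hxy)
    · have hx' : x ∈ U₂ := hmix ⟨x, hx⟩ ⟨y, hy⟩ hxy
      exact congrArg Subtype.val (inj₂ ⟨x, hx'⟩ ⟨y, hy⟩ hxy)
    · have hy' : y ∈ U₂ := hmix ⟨y, hy⟩ ⟨x, hx⟩ hxy.symm
      exact congrArg Subtype.val (inj₂ ⟨x, hx⟩ ⟨y, hy'⟩ hxy)
    · exact congrArg Subtype.val (inj₂ ⟨x, hx⟩ ⟨y, hy⟩ hxy)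
  · refine (X.openCoverOfIsOpenCover (fun b : ULift.{u} Bool => if b.down then U₁ else U₂)
      (top_le_iff.1 (hU.ge.trans (sup_le (le_iSup (fun b : ULift.{u} Bool => if b.down then U₁ else U₂) ⟨true⟩)
        (le_iSup (fun b : ULift.{u} Bool => if b.down then U₁ else U₂) ⟨false⟩))))).hom_ext _ _ fun b => ?_
    rcases b with ⟨_ | _⟩
    · show U₂.ι ≫ k ≫ p = U₂.ι ≫ f
      rw [reassoc_of% hkb, pushout.inr_desc, reassoc_of% hκ₂, h₂]
    · show U₁.ι ≫ k ≫ p = U₁.ι ≫ f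
      rw [reassoc_of% hka, pushout.inl_desc, reassoc_of% hκ₁, h₁]

end Groth.Agent.LocImmLib
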